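import Cfsg.Agent.Lib.MartineauSz.Lift
import Cfsg.Agent.Lib.PGroup.Frattini
import Cfsg.Agent.Lib.Perm.MinimalNormal
import Cfsg.Agent.Lib.Solvable.Basic

/-!
**Martineau**: if `G/Q` is a Suzuki group, `Q` a 2-group on which the elements of odd order act
fixed-point-freely, then `Q` is elementary abelian.
-/

set_option autoImplicit false

namespace Cfsg.Agent.MartineauSz

open Cfsg Matrix Cfsg.Agent.SZ Subgroup

universe u v

variable {G : Type u} [Group G]

/-- Every element of odd order of a quotient has a lift of odd order. -/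
theorem exists_odd_lift [Finite G] (Q : Subgroup G) [Q.Normal] (z : G ⧸ Q) (hz : Odd (orderOf z)) :
    ∃ x : G, Odd (orderOf x) ∧ (x : G ⧸ Q) = z := by
  obtain ⟨g, rfl⟩ := QuotientGroup.mk_surjective z
  obtain ⟨a, m, hm, hgm⟩ := Nat.exists_eq_pow_mul_and_not_dvd (orderOf_pos g).ne' 2 (by omega)
  have hmo : Odd m := Nat.not_even_iff_odd.1 fun he => hm he.two_dvd
  obtain ⟨j, hj1, hj2⟩ := Nat.chineseRemainder
    ((Nat.coprime_two_left.2 hz).pow_left a : Nat.Coprime (2 ^ a) (orderOf (g : G ⧸ Q))) 0 1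
  refine ⟨g ^ j, ?_, ?_⟩
  · refine hmo.of_dvd_nat (orderOf_dvd_of_pow_eq_one ?_)
    obtain ⟨i, rfl⟩ := Nat.modEq_zero_iff_dvd.1 hj1
    rw [← pow_mul, show 2 ^ a * i * m = orderOf g * i by rw [hgm]; ring, pow_mul, pow_orderOf_eq_one,
      one_pow]
  · rw [QuotientGroup.mk_pow]
    conv_rhs => rw [← pow_one (g : G ⧸ Q)]
    exact pow_eq_pow_iff_modEq.2 hj2

variable {F : Type v} [Field F] [Fintype F] {m : ℕ}

/-- The module given by an action on an abelian group. -/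
def modRep (Q : Subgroup G) [Q.Normal] (e : G ⧸ Q ≃* Sz F m) {H : Type*} [CommGroup H]
    (c : G →* MulAut H) (hc : Q ≤ c.ker) : Representation ℤ (Sz F m) (Additive H) where
  toFun g := (MonoidHom.toAdditive ((QuotientGroup.lift Q c hc) (e.symm g)).toMonoidHom).toIntLinearMap
  map_one' := by
    rw [map_one e.symm, map_one]
    rfl
  map_mul' g h := by
    rw [map_mul e.symm, map_mul]
    rfl

omit [Fintype F] in
theorem modRep_apply (Q : Subgroup G) [Q.Normal] (e : G ⧸ Q ≃* Sz F m) {H : Type*} [CommGroup H]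
    (c : G →* MulAut H) (hc : Q ≤ c.ker) (g : G) (h : H) :
    modRep Q e c hc (e (g : G ⧸ Q)) (Additive.ofMul h) = Additive.ofMul (c g h) := by
  simp [modRep]

theorem fpf_modRep [Finite G] (hm : 1 ≤ m) (hF : Fintype.card F = 2 ^ (2 * m + 1)) (Q : Subgroup G)
    [Q.Normal] (e : G ⧸ Q ≃* Sz F m) {H : Type*} [CommGroup H] (c : G →* MulAut H) (hc : Q ≤ c.ker)
    (hfpf : ∀ x : G, Odd (orderOf x) → x ∉ Q → ∀ h, c x h = h → h = 1) :
    Fpf hF (modRep Q e c hc) := by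
  classical
  have key : ∀ z : Sz F m, Odd (orderOf z) → z ≠ 1 → ∀ v, modRep Q e c hc z v = v → v = 0 := by
    intro z hz hz1 v hv
    obtain ⟨x, hx, hxz⟩ := exists_odd_lift Q (e.symm z) (by rw [MulEquiv.orderOf_eq]; exact hz)
    obtain ⟨h, rfl⟩ : ∃ h, Additive.ofMul h = v := ⟨Additive.toMul v, rfl⟩
    have hz' : z = e (x : G ⧸ Q) := by rw [hxz, MulEquiv.apply_symm_apply]
    rw [hz', modRep_apply] at hv
    rw [hfpf x hx (fun hxQ => hz1 (by rw [hz', (QuotientGroup.eq_one_iff x).2 hxQ, map_one])) h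
      (Additive.ofMul.injective hv)]
    rfl
  refine ⟨fun u hu => key _ ?_ ?_, key _ ?_ ?_⟩
  · have hd : orderOf (hS hF u : Sz F m) ∣ Fintype.card F - 1 := by
      refine orderOf_dvd_of_pow_eq_one ?_
      have hp : ∀ k : ℕ, (hS hF (u ^ k) : Sz F m) = hS hF u ^ k := fun k => by
        induction k with
        | zero => rw [pow_zero, pow_zero]; exact Subtype.ext H_one
        | succ k ih => rw [pow_succ, pow_succ, ← ih]; exact Subtype.ext (H_mul _ _)
      rw [← hp, ← Fintype.card_units, pow_card_eq_one]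
      exact Subtype.ext H_one
    refine Odd.of_dvd_nat ?_ hd
    rw [hF]
    exact Nat.Even.sub_odd Nat.one_le_two_pow (Nat.even_pow.2 ⟨even_two, by omega⟩) odd_one
  · intro e'
    apply hu
    have := congrArg (fun g : Sz F m => g.1.1 0 0) e'
    refine Units.ext ?_
    simpa [hS, SZ.H, hVec] using this
  · exact (Odd.of_dvd_nat (by decide : Odd 5) (orderOf_dvd_of_pow_eq_one (yEl_pow_five hF)))
  · intro e'
    haveI := charTwo hF
    have h1 : (yEl (m := m) hF).1.1 = 1 := by rw [e']; rfl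
    rw [yEl_val, ← Matrix.map_one (ZMod.castHom (dvd_refl 2) F) (map_zero _) (map_one _)] at h1
    have := Matrix.map_injective (ZMod.castHom (dvd_refl 2) F).injective h1
    revert this
    unfold yTwo
    decide +kernel

/-- The induction behind Martineau's theorem. -/
theorem martineau_aux (hm : 1 ≤ m) (hF : Fintype.card F = 2 ^ (2 * m + 1)) (n : ℕ) :
    ∀ {G : Type u} [Group G] [Finite G], Nat.card G = n → ∀ (Q : Subgroup G) [Q.Normal],
      IsPGroup 2 Q → (G ⧸ Q ≃* Sz F m) →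
      (∀ x : G, Odd (orderOf x) → x ≠ 1 → ∀ q ∈ Q, x * q * x⁻¹ = q → q = 1) →
      ∀ a ∈ Q, ∀ b ∈ Q, a * b = b * a ∧ a * a = 1 := by
  induction n using Nat.strong_induction_on with
  | _ n ih =>
  intro G _ _ hn Q _ hQ e hfpf
  classical
  haveI : Fact (Nat.Prime 2) := ⟨Nat.prime_two⟩
  haveI := charTwo hF
  by_cases hQ1 : Q = ⊥
  · intro a ha b hb
    rw [hQ1, Subgroup.mem_bot] at ha hb
    simp [ha, hb]
  haveI : Nontrivial Q := (Subgroup.nontrivial_iff_ne_bot Q).2 hQ1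
  set Z := (Subgroup.center Q).map Q.subtype with hZ
  have hZ1 : Z ≠ ⊥ := fun h => by
    rw [hZ, map_eq_bot_iff_of_injective _ Q.subtype_injective] at h
    exact (Subgroup.nontrivial_iff_ne_bot _).1 hQ.center_nontrivial h
  haveI : Z.Normal := by rw [hZ]; infer_instance
  obtain ⟨V, hVn, hVZ, hV1, hVmin⟩ := Solvable.exists_minimal_normal hZ1
  haveI := hVn
  have hVQ : V ≤ Q := hVZ.trans (map_subtype_le _)
  have hVc : ∀ v ∈ V, ∀ q ∈ Q, q * v = v * q := fun v hv q hq => by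
    obtain ⟨z, hz, rfl⟩ := hVZ hv
    exact congrArg Subtype.val (Subgroup.mem_center_iff.1 hz ⟨q, hq⟩)
  haveI hVcomm : IsMulCommutative V := ⟨⟨fun a b => Subtype.ext (hVc b b.2 a (hVQ a.2))⟩⟩
  obtain ⟨p, hp, hexp⟩ := Perm.exists_prime_exponent_of_abelian_minimal V hV1 hVmin
  have hV2 : ∀ v ∈ V, v * v = 1 := by
    obtain ⟨v, hv, hv1⟩ := V.bot_or_exists_ne_one.resolve_left hV1
    haveI := Fact.mk hp
    obtain ⟨k, hk⟩ := hQ ⟨v, hVQ hv⟩
    have hk' : v ^ 2 ^ k = 1 := congrArg Subtype.val hk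
    have hd : p ∣ 2 ^ k := orderOf_eq_prime (hexp v hv) hv1 ▸ orderOf_dvd_of_pow_eq_one hk'
    obtain rfl : p = 2 := (Nat.prime_dvd_prime_iff_eq hp Nat.prime_two).1 (hp.dvd_of_dvd_pow hd)
    exact fun v hv => by rw [← sq]; exact hexp v hv
  -- the fixed points lift
  have hlift : ∀ x : G, Odd (orderOf x) → x ≠ 1 → ∀ q ∈ Q, x * q * x⁻¹ * q⁻¹ ∈ V → q ∈ V := by
    intro x hx hx1 q hq hc
    let θ : V → V := fun y => ⟨x * y * x⁻¹ * (y : G)⁻¹, V.mul_mem (hVn.conj_mem _ y.2 x) (V.inv_mem y.2)⟩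
    have hθ : Function.Injective θ := fun y y' h => by
      have h' : x * (y : G) * x⁻¹ * (y : G)⁻¹ = x * (y' : G) * x⁻¹ * (y' : G)⁻¹ := congrArg Subtype.val h
      have hcomm : (y' : G)⁻¹ * y = y * (y' : G)⁻¹ := hVc _ y.2 _ (Q.inv_mem (hVQ y'.2))
      have hfix : x * ((y' : G)⁻¹ * y) * x⁻¹ = (y' : G)⁻¹ * y := by
        have e1 : x * (y : G) * x⁻¹ = x * (y' : G) * x⁻¹ * (y' : G)⁻¹ * y := by
          rw [← h']; group
        calc x * ((y' : G)⁻¹ * y) * x⁻¹ = (x * (y' : G) * x⁻¹)⁻¹ * (x * y * x⁻¹) := by group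
          _ = _ := by rw [e1]; group
      exact Subtype.ext (inv_mul_eq_one.1
        (hfpf x hx hx1 _ (hVQ (V.mul_mem (V.inv_mem y'.2) y.2)) hfix)).symm
    obtain ⟨y, hy⟩ := (Finite.injective_iff_surjective.1 hθ) ⟨_, hc⟩
    have hy' : x * (y : G) * x⁻¹ * (y : G)⁻¹ = x * q * x⁻¹ * q⁻¹ := congrArg Subtype.val hy
    have hqy : q * (y : G) = y * q := hVc _ y.2 _ hq
    have hfix : x * ((y : G)⁻¹ * q) * x⁻¹ = (y : G)⁻¹ * q := by
      have e1 : x * q * x⁻¹ = x * (y : G) * x⁻¹ * (y : G)⁻¹ * q := by rw [hy']; group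
      calc x * ((y : G)⁻¹ * q) * x⁻¹ = (x * (y : G) * x⁻¹)⁻¹ * (x * q * x⁻¹) := by group
        _ = _ := by rw [e1]; group
    have := hfpf x hx hx1 _ (Q.mul_mem (Q.inv_mem (hVQ y.2)) hq) hfix
    rw [inv_mul_eq_one] at this
    exact this ▸ y.2
  -- the quotient
  set π := QuotientGroup.mk' V with hπ
  have hlt : Nat.card (G ⧸ V) < n := by
    rw [← hn, Subgroup.card_eq_card_quotient_mul_card_subgroup V]
    exact lt_mul_of_one_lt_right Nat.card_pos ((Subgroup.one_lt_card_iff_ne_bot V).2 hV1)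
  haveI : (Q.map π).Normal := Subgroup.Normal.map inferInstance π (QuotientGroup.mk'_surjective V)
  have hq' := ih _ hlt rfl (Q.map π) (hQ.map π)
    ((QuotientGroup.quotientQuotientEquivQuotient V Q hVQ).trans e) (fun x' hx' hx1 y hy hfix => by
      obtain ⟨x, hx, rfl⟩ := exists_odd_lift V x' hx'
      obtain ⟨q, hq, rfl⟩ := hy
      refine (QuotientGroup.eq_one_iff q).2 (hlift x hx (fun h => hx1 (by rw [h]; rfl)) q hq ?_)
      rw [← QuotientGroup.eq_one_iff]
      simpa [hπ, mul_inv_eq_one] using hfix)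
  have hQab' : ∀ a ∈ Q, ∀ b ∈ Q, π (a * b) = π (b * a) := fun a ha b hb => by
    rw [map_mul, map_mul]
    exact (hq' _ ⟨a, ha, rfl⟩ _ ⟨b, hb, rfl⟩).1
  have hQsq : ∀ a ∈ Q, a * a ∈ V := fun a ha => by
    rw [← QuotientGroup.eq_one_iff]
    show π (a * a) = 1
    rw [map_mul]
    exact (hq' _ ⟨a, ha, rfl⟩ _ ⟨a, ha, rfl⟩).2
  have hcommV : ∀ a ∈ Q, ∀ b ∈ Q, a * b * a⁻¹ * b⁻¹ ∈ V := fun a ha b hb => by
    rw [← QuotientGroup.eq_one_iff]
    show π (a * b * a⁻¹ * b⁻¹) = 1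
    rw [map_mul, map_mul, map_inv, map_inv, hQab' a ha b hb, map_mul]
    group
  -- `Q` is abelian
  have hab : ∀ a ∈ Q, ∀ b ∈ Q, a * b = b * a := by
    let Q' := Q.map π
    letI : CommGroup Q' := { (inferInstance : Group Q') with
      mul_comm := fun a b => Subtype.ext (hq' _ a.2 _ b.2).1 }
    letI : CommGroup V := { (inferInstance : Group V) with
      mul_comm := fun a b => Subtype.ext (hVc b b.2 a (hVQ a.2)) }
    let cQ : G →* MulAut Q' := (MulAut.conjNormal (H := Q')).comp π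
    have hcQ : Q ≤ cQ.ker := fun g hg => MulEquiv.ext fun y => Subtype.ext (by
      show π g * (y : G ⧸ V) * (π g)⁻¹ = y
      rw [(hq' _ ⟨g, hg, rfl⟩ _ y.2).1, mul_inv_cancel_right])
    let cV : G →* MulAut V := MulAut.conjNormal
    have hcV : Q ≤ cV.ker := fun g hg => MulEquiv.ext fun y => Subtype.ext (by
      show g * (y : G) * g⁻¹ = y
      rw [hVc _ y.2 _ hg, mul_inv_cancel_right])
    have hσ : Fpf hF (modRep Q e cQ hcQ) := fpf_modRep hm hF Q e cQ hcQ fun x hx hxQ y hy => by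
      obtain ⟨q, hq, hqy⟩ := y.2
      have hy' : π x * (y : G ⧸ V) * (π x)⁻¹ = y := congrArg Subtype.val hy
      refine Subtype.ext ?_
      rw [← hqy]
      refine (QuotientGroup.eq_one_iff q).2 (hlift x hx (fun h => hxQ (h ▸ Q.one_mem)) q hq ?_)
      rw [← QuotientGroup.eq_one_iff]
      show π (x * q * x⁻¹ * q⁻¹) = 1
      rw [map_mul, map_mul, map_mul, map_inv, map_inv, hqy, hy', mul_inv_cancel]
    have hρ : Fpf hF (modRep Q e cV hcV) := fpf_modRep hm hF Q e cV hcV fun x hx hxQ y hy =>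
      Subtype.ext (hfpf x hx (fun h => hxQ (h ▸ Q.one_mem)) _ (hVQ y.2) (congrArg Subtype.val hy))
    -- the commutator
    have hsel : ∀ y : Q', ∃ q : Q, π q = y := fun y => by
      obtain ⟨q, hq, hqy⟩ := y.2
      exact ⟨⟨q, hq⟩, hqy⟩
    choose s hs using hsel
    let κ : Q → Q → V := fun a b => ⟨(a : G) * b * (a : G)⁻¹ * (b : G)⁻¹, hcommV a a.2 b b.2⟩
    have hκl : ∀ a b c : Q, κ (a * b) c = κ a c * κ b c := fun a b c => Subtype.ext (by
      show (a : G) * b * c * ((a : G) * b)⁻¹ * (c : G)⁻¹ =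
        (a : G) * c * (a : G)⁻¹ * (c : G)⁻¹ * ((b : G) * c * (b : G)⁻¹ * (c : G)⁻¹)
      have h := hVc _ (hcommV b b.2 c c.2) _ (Q.mul_mem (Q.mul_mem c.2 (Q.inv_mem a.2)) (Q.inv_mem c.2))
      calc (a : G) * b * c * ((a : G) * b)⁻¹ * (c : G)⁻¹
          = (a : G) * ((b : G) * c * (b : G)⁻¹ * (c : G)⁻¹) * ((c : G) * (a : G)⁻¹ * (c : G)⁻¹) := by group
        _ = (a : G) * (((c : G) * (a : G)⁻¹ * (c : G)⁻¹) * ((b : G) * c * (b : G)⁻¹ * (c : G)⁻¹)) := by
            rw [mul_assoc, ← h]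
        _ = _ := by group)
    have hκr : ∀ a b c : Q, κ a (b * c) = κ a b * κ a c := fun a b c => Subtype.ext (by
      show (a : G) * ((b : G) * c) * (a : G)⁻¹ * ((b : G) * c)⁻¹ =
        (a : G) * b * (a : G)⁻¹ * (b : G)⁻¹ * ((a : G) * c * (a : G)⁻¹ * (c : G)⁻¹)
      have h := hVc _ (hcommV a a.2 c c.2) _ b.2
      calc (a : G) * ((b : G) * c) * (a : G)⁻¹ * ((b : G) * c)⁻¹
          = (a : G) * b * (a : G)⁻¹ * ((a : G) * c * (a : G)⁻¹ * (c : G)⁻¹) * (b : G)⁻¹ := by group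
        _ = (a : G) * b * (a : G)⁻¹ * ((b : G)⁻¹ * ((b : G) * ((a : G) * c * (a : G)⁻¹ * (c : G)⁻¹))) *
              (b : G)⁻¹ := by group
        _ = _ := by rw [h]; group)
    have hκV : ∀ a b : Q, (a : G) ∈ V → κ a b = 1 := fun a b ha => Subtype.ext (by
      show (a : G) * b * (a : G)⁻¹ * (b : G)⁻¹ = 1
      rw [← hVc _ ha _ b.2]; group)
    have hκV' : ∀ a b : Q, (b : G) ∈ V → κ a b = 1 := fun a b hb => Subtype.ext (by
      show (a : G) * b * (a : G)⁻¹ * (b : G)⁻¹ = 1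
      rw [hVc _ hb _ a.2]; group)
    have hinv : ∀ {a a' : Q}, π a = π a' → ((a⁻¹ * a' : Q) : G) ∈ V := fun h => QuotientGroup.eq.1 h
    have hκwd : ∀ a a' b b' : Q, π a = π a' → π b = π b' → κ a b = κ a' b' := by
      intro a a' b b' ha hb
      have ea : a' = a * (a⁻¹ * a') := by group
      have eb : b' = b * (b⁻¹ * b') := by group
      rw [ea, hκl, hκV _ _ (hinv ha), mul_one, eb, hκr, hκV' _ _ (hinv hb), mul_one]
    let β : Additive Q' →ₗ[ℤ] Additive Q' →ₗ[ℤ] Additive V :=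
      (AddMonoidHom.mk' (fun a => (AddMonoidHom.mk'
        (fun b => Additive.ofMul (κ (s a.toMul) (s b.toMul))) fun b b' => by
          rw [toMul_add, ← ofMul_mul, ← hκr]
          refine congrArg Additive.ofMul (hκwd _ _ _ _ rfl ?_)
          rw [hs, Subgroup.coe_mul, Subgroup.coe_mul, map_mul, hs, hs]).toIntLinearMap) fun a a' => by
        refine LinearMap.ext fun b => ?_
        show Additive.ofMul (κ (s (a + a').toMul) (s b.toMul)) =
          Additive.ofMul (κ (s a.toMul) (s b.toMul)) + Additive.ofMul (κ (s a'.toMul) (s b.toMul))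
        rw [toMul_add, ← ofMul_mul, ← hκl]
        refine congrArg Additive.ofMul (hκwd _ _ _ _ ?_ rfl)
        rw [hs, Subgroup.coe_mul, Subgroup.coe_mul, map_mul, hs, hs]).toIntLinearMap
    have hzero : β = 0 := biadditive_zero hm hF
      (fun v => Additive.toMul.injective (Subtype.ext (hV2 _ v.toMul.2))) hσ hσ hρ β fun z a b => by
        obtain ⟨z, rfl⟩ := e.surjective z
        obtain ⟨g, rfl⟩ := QuotientGroup.mk_surjective z
        obtain ⟨a, rfl⟩ : ∃ a', Additive.ofMul a' = a := ⟨Additive.toMul a, rfl⟩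
        obtain ⟨b, rfl⟩ : ∃ b', Additive.ofMul b' = b := ⟨Additive.toMul b, rfl⟩
        rw [modRep_apply, modRep_apply]
        show Additive.ofMul (κ (s (cQ g a)) (s (cQ g b))) =
          modRep Q e cV hcV (e (g : G ⧸ Q)) (Additive.ofMul (κ (s a) (s b)))
        rw [modRep_apply]
        refine congrArg Additive.ofMul ?_
        let a' : Q := ⟨g * s a * g⁻¹, Subgroup.Normal.conj_mem inferInstance _ (s a).2 g⟩
        let b' : Q := ⟨g * s b * g⁻¹, Subgroup.Normal.conj_mem inferInstance _ (s b).2 g⟩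
        rw [hκwd _ a' _ b' (by rw [hs]; show _ = π (g * s a * g⁻¹); rw [map_mul, map_mul, map_inv, hs]; rfl)
          (by rw [hs]; show _ = π (g * s b * g⁻¹); rw [map_mul, map_mul, map_inv, hs]; rfl)]
        refine Subtype.ext ?_
        show g * (s a : G) * g⁻¹ * (g * (s b : G) * g⁻¹) * (g * (s a : G) * g⁻¹)⁻¹ *
          (g * (s b : G) * g⁻¹)⁻¹ = g * ((s a : G) * s b * (s a : G)⁻¹ * (s b : G)⁻¹) * g⁻¹
        group
    intro a ha b hb
    have h := LinearMap.congr_fun (LinearMap.congr_fun hzero (Additive.ofMul (⟨π a, a, ha, rfl⟩ : Q')))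
      (Additive.ofMul (⟨π b, b, hb, rfl⟩ : Q'))
    have h' : κ (s ⟨π a, a, ha, rfl⟩) (s ⟨π b, b, hb, rfl⟩) = 1 := Additive.ofMul.injective h
    rw [hκwd _ ⟨a, ha⟩ _ ⟨b, hb⟩ (by rw [hs]) (by rw [hs])] at h'
    have h'' : a * b * a⁻¹ * b⁻¹ = 1 := congrArg Subtype.val h'
    rwa [mul_inv_eq_one, mul_inv_eq_iff_eq_mul] at h''
  -- and has exponent two
  letI : CommGroup Q := { (inferInstance : Group Q) with
    mul_comm := fun a b => Subtype.ext (hab a a.2 b b.2) }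
  let cQ : G →* MulAut Q := MulAut.conjNormal
  have hcQ : Q ≤ cQ.ker := fun g hg => MulEquiv.ext fun y => Subtype.ext (by
    show g * (y : G) * g⁻¹ = y
    rw [hab g hg y y.2, mul_inv_cancel_right])
  have hρ : Fpf hF (modRep Q e cQ hcQ) := fpf_modRep hm hF Q e cQ hcQ fun x hx hxQ y hy =>
    Subtype.ext (hfpf x hx (fun h => hxQ (h ▸ Q.one_mem)) _ y.2 (congrArg Subtype.val hy))
  have hexp := exponent_two hF hm (fun q : Additive Q => Additive.toMul.injective (Subtype.ext (by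
    show ((Additive.toMul q : Q) : G) ^ 4 = 1
    have h2 := hV2 _ (hQsq _ (Additive.toMul q).2)
    rw [pow_succ, pow_three', mul_assoc]
    exact h2))) _ hρ
  exact fun a ha b hb => ⟨hab a ha b hb,
    congrArg (fun q : Additive Q => ((Additive.toMul q : Q) : G)) (hexp (Additive.ofMul ⟨a, ha⟩))⟩

/-- **Martineau's theorem.** -/
theorem martineau [Finite G] (hm : 1 ≤ m) (hF : Fintype.card F = 2 ^ (2 * m + 1)) (Q : Subgroup G)
    [Q.Normal] (hQ : IsPGroup 2 Q) (e : G ⧸ Q ≃* Sz F m)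
    (hfpf : ∀ x : G, Odd (orderOf x) → x ≠ 1 → ∀ q ∈ Q, x * q * x⁻¹ = q → q = 1) :
    ∀ a ∈ Q, ∀ b ∈ Q, a * b = b * a ∧ a * a = 1 :=
  martineau_aux hm hF (Nat.card G) rfl Q hQ e hfpf

end Cfsg.Agent.MartineauSz
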