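import Cfsg.Agent.Lib.MartineauSz.Simples

/-!
Representations of Suzuki groups in characteristic two, part 3: equivariant bilinear maps between
fixed-point-free modules vanish; extension of scalars.
-/

set_option autoImplicit false

namespace Cfsg.Agent.MartineauSz

open Cfsg Matrix Cfsg.Agent.SZ TensorProduct

section General

variable {K G V : Type*} [CommSemiring K] [Group G] [AddCommGroup V] [Module K V]

/-- Extension of scalars of a representation over the integers. -/
noncomputable def bcRep (A : Type*) [CommRing A] {M : Type*} [AddCommGroup M]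
    (ρ : Representation ℤ G M) : Representation A G (A ⊗[ℤ] M) :=
  (Module.End.baseChangeHom ℤ A M).toMonoidHom.comp ρ

theorem bcRep_tmul (A : Type*) [CommRing A] {M : Type*} [AddCommGroup M] (ρ : Representation ℤ G M)
    (g : G) (a : A) (x : M) : bcRep A ρ g (a ⊗ₜ x) = a ⊗ₜ ρ g x := rfl

end General

/-- An injective endomorphism minus one stays so after extension of scalars. -/
theorem fixed_baseChange (A : Type*) [CommRing A] {M : Type*} [AddCommGroup M] [Finite M]
    (f : M →ₗ[ℤ] M) (h : ∀ x, f x = x → x = 0) (z : A ⊗[ℤ] M) (hz : f.baseChange A z = z) : z = 0 := by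
  have hinj : Function.Injective (f - LinearMap.id : M →ₗ[ℤ] M) := by
    rw [← LinearMap.ker_eq_bot]
    refine (Submodule.eq_bot_iff _).2 fun x hx => h x ?_
    exact sub_eq_zero.1 hx
  let e : M ≃ₗ[ℤ] M := LinearEquiv.ofBijective _ ⟨hinj, Finite.injective_iff_surjective.1 hinj⟩
  have h1 : (e.symm.toLinearMap.comp (f - LinearMap.id : M →ₗ[ℤ] M)).baseChange A z = z := by
    rw [show e.symm.toLinearMap.comp (f - LinearMap.id : M →ₗ[ℤ] M) = LinearMap.id from
      LinearMap.ext fun x => e.symm_apply_apply x, LinearMap.baseChange_id, LinearMap.id_apply]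
  rw [LinearMap.baseChange_comp, LinearMap.comp_apply, LinearMap.baseChange_sub, LinearMap.sub_apply,
    LinearMap.baseChange_id, LinearMap.id_apply, hz, sub_self, map_zero] at h1
  exact h1.symm

/-- Vectors survive extension of scalars to a field of characteristic two. -/
theorem one_tmul_inj {F M : Type*} [Field F] [CharP F 2] [AddCommGroup M]
    (h2 : ∀ x : M, x + x = 0) {x : M} (hx : (1 : F) ⊗ₜ[ℤ] x = 0) : x = 0 := by
  letI : Module (ZMod 2) M := AddCommGroup.zmodModule fun y => by rw [two_nsmul]; exact h2 y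
  letI : Algebra (ZMod 2) F := ZMod.algebra F 2
  obtain ⟨c, hc⟩ : ∃ c : Module.Dual (ZMod 2) F, c 1 = 1 := by
    by_contra hcon
    push Not at hcon
    refine one_ne_zero (α := F) ((Module.forall_dual_apply_eq_zero_iff (ZMod 2) (1 : F)).1 fun c => ?_)
    have h := hcon c
    revert h
    generalize c 1 = z
    revert z
    decide
  let L : F ⊗[ℤ] M →+ M := TensorProduct.liftAddHom
    (AddMonoidHom.mk' (fun a => AddMonoidHom.mk' (fun y => c a • y) fun y y' => smul_add _ _ _)
      fun a a' => AddMonoidHom.ext fun y => by simp [add_smul])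
    fun k a y => by
      simp only [AddMonoidHom.mk'_apply]
      rw [map_zsmul, smul_assoc, smul_comm]
  have := congrArg L hx
  rw [map_zero, TensorProduct.liftAddHom_tmul] at this
  simpa [hc] using this

variable {F : Type*} [Field F] [Fintype F] {m : ℕ} (hF : Fintype.card F = 2 ^ (2 * m + 1))

theorem Fpf.baseChange {M : Type*} [AddCommGroup M] [Finite M] {ρ : Representation ℤ (Sz F m) M}
    (A : Type*) [CommRing A] (h : Fpf hF ρ) : Fpf hF (bcRep A ρ) where
  torus u hu z hz := fixed_baseChange A _ (h.torus u hu) z hz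
  five z hz := fixed_baseChange A _ h.five z hz

variable {V : Type*} [AddCommGroup V] [Module F V]

omit [Fintype F] in
/-- Restriction to an invariant subspace. -/
def subRep (ρ : Representation F (Sz F m) V) (U : Submodule F V) (hU : IsInv ρ U) :
    Representation F (Sz F m) U where
  toFun g := (ρ g).restrict (hU g)
  map_one' := LinearMap.ext fun u => Subtype.ext (by simp)
  map_mul' g h := LinearMap.ext fun u => Subtype.ext (rep_mul_apply ρ g h u.1)

omit [Fintype F] in
theorem coe_subRep (ρ : Representation F (Sz F m) V) (U : Submodule F V) (hU : IsInv ρ U) (g : Sz F m)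
    (u : U) : (subRep ρ U hU g u : V) = ρ g u := rfl

omit [Fintype F] in
/-- The action on the quotient by an invariant subspace. -/
def quotRep (ρ : Representation F (Sz F m) V) (U : Submodule F V) (hU : IsInv ρ U) :
    Representation F (Sz F m) (V ⧸ U) where
  toFun g := U.mapQ U (ρ g) (fun u hu => hU g u hu)
  map_one' := LinearMap.ext fun x => by
    obtain ⟨x, rfl⟩ := Submodule.Quotient.mk_surjective U x
    simp
  map_mul' g h := LinearMap.ext fun x => by
    obtain ⟨x, rfl⟩ := Submodule.Quotient.mk_surjective U x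
    simp [rep_mul_apply]

omit [Fintype F] in
theorem quotRep_mk (ρ : Representation F (Sz F m) V) (U : Submodule F V) (hU : IsInv ρ U) (g : Sz F m)
    (x : V) : quotRep ρ U hU g (Submodule.Quotient.mk x) = Submodule.Quotient.mk (ρ g x) := rfl

variable {hF}

theorem Fpf.sub {ρ : Representation F (Sz F m) V} (h : Fpf hF ρ) (U : Submodule F V) (hU : IsInv ρ U) :
    Fpf hF (subRep ρ U hU) where
  torus u hu v hv := Subtype.ext (h.torus u hu v (congrArg Subtype.val hv))
  five v hv := Subtype.ext (h.five v (congrArg Subtype.val hv))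

theorem fixed_quot [Finite V] (ρ : Representation F (Sz F m) V) (U : Submodule F V) (hU : IsInv ρ U)
    (g : Sz F m) (h : ∀ v, ρ g v = v → v = 0) (x : V ⧸ U) (hx : quotRep ρ U hU g x = x) : x = 0 := by
  haveI : Finite (V ⧸ U) := Finite.of_surjective _ (Submodule.Quotient.mk_surjective U)
  set D : V →ₗ[F] V := ρ g - LinearMap.id
  have hs : Function.Surjective D := Finite.injective_iff_surjective.1 (by
    rw [← LinearMap.ker_eq_bot]
    exact (Submodule.eq_bot_iff _).2 fun v hv => h v (sub_eq_zero.1 hv))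
  set D' : V ⧸ U →ₗ[F] V ⧸ U := quotRep ρ U hU g - LinearMap.id
  have hs' : Function.Surjective D' := by
    intro y
    obtain ⟨y, rfl⟩ := Submodule.Quotient.mk_surjective U y
    obtain ⟨v, hv⟩ := hs y
    refine ⟨Submodule.Quotient.mk v, ?_⟩
    rw [← hv]
    simp only [D, D', LinearMap.sub_apply, LinearMap.id_apply, quotRep_mk, Submodule.Quotient.mk_sub]
  refine Finite.injective_iff_surjective.2 hs' ?_
  simp [D', hx]

theorem Fpf.quot [Finite V] {ρ : Representation F (Sz F m) V} (h : Fpf hF ρ) (U : Submodule F V)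
    (hU : IsInv ρ U) : Fpf hF (quotRep ρ U hU) where
  torus u hu v hv := fixed_quot ρ U hU _ (h.torus u hu) v hv
  five v hv := fixed_quot ρ U hU _ h.five v hv

omit [Fintype F] in
theorem exists_irred_sub [Finite V] (ρ : Representation F (Sz F m) V) (h : ∃ v : V, v ≠ 0) :
    ∃ (U : Submodule F V) (hU : IsInv ρ U), IsIrred (subRep ρ U hU) := by
  haveI : Finite (Submodule F V) := Finite.of_injective (fun U => (U : Set V)) SetLike.coe_injective
  obtain ⟨v, hv⟩ := h
  obtain ⟨U, -, ⟨⟨hUi, hU0⟩, hmin⟩⟩ := Finite.exists_le_minimal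
    (p := fun U : Submodule F V => IsInv ρ U ∧ U ≠ ⊥) (a := ⊤)
    ⟨fun _ _ _ => Submodule.mem_top, fun e => hv ((Submodule.mem_bot F).1 (e ▸ Submodule.mem_top))⟩
  obtain ⟨u, hu, hu0⟩ := Submodule.exists_mem_ne_zero_of_ne_bot hU0
  refine ⟨U, hUi, ⟨⟨u, hu⟩, fun e => hu0 (congrArg Subtype.val e)⟩, fun T hT t ht ht0 => ?_⟩
  have hle : U ≤ T.map U.subtype := by
    refine hmin ⟨?_, ?_⟩ (Submodule.map_subtype_le U T)
    · rintro g _ ⟨x, hx, rfl⟩
      exact ⟨subRep ρ U hUi g x, hT g x hx, rfl⟩
    · intro e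
      have : U.subtype t ∈ T.map U.subtype := ⟨t, ht, rfl⟩
      rw [e, Submodule.mem_bot] at this
      exact ht0 (Subtype.ext this)
  rw [eq_top_iff]
  intro x _
  obtain ⟨y, hy, hyx⟩ := hle x.2
  rwa [← Subtype.ext hyx]

variable [CharP F 2]

omit [Fintype F] in
theorem eq_cst (i : Fin (2 * m + 1)) (x : Idx ({i} : Finset _)) :
    x = cst {i} (x ⟨i, Finset.mem_singleton_self i⟩) :=
  funext fun j => by
    have : j = ⟨i, Finset.mem_singleton_self i⟩ := Subtype.ext (Finset.mem_singleton.1 j.2)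
    rw [this]; rfl

theorem natural_bv (i : Fin (2 * m + 1)) (g : Sz F m) (k : Fin 4) :
    tRep {i} g (bv {i} k) = ∑ r, (g.1.1 r k) ^ 2 ^ (i : ℕ) • bv {i} r := by
  classical
  funext x
  rw [bv, tRep_single, Finset.sum_apply, Fintype.sum_eq_single (x ⟨i, Finset.mem_singleton_self i⟩)]
  · rw [Pi.smul_apply, bv, ← eq_cst, Pi.single_eq_same, smul_eq_mul, mul_one, tens_apply,
      Fintype.prod_eq_single (⟨i, Finset.mem_singleton_self i⟩ : ↥({i} : Finset _))]
    · rfl
    · intro j hj
      exact absurd (Subtype.ext (Finset.mem_singleton.1 j.2)) hj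
  · intro r hr
    rw [Pi.smul_apply, bv, Pi.single_eq_of_ne, smul_zero]
    intro e
    exact hr (by rw [e]; rfl)

theorem natural_hS_top (i : Fin (2 * m + 1)) (u : Fˣ) :
    tRep {i} (hS hF u) (bv {i} 0) = ((u : F) ^ 2 ^ (i : ℕ)) • bv {i} 0 := by
  rw [natural_bv, Finset.sum_eq_single 0]
  · simp [hS, H, hVec]
  · intro r _ hr
    rw [show (hS hF u).1.1 r 0 = 0 from Matrix.diagonal_apply_ne _ hr, zero_pow (by positivity), zero_smul]
  · simp

theorem natural_hS_bot (i : Fin (2 * m + 1)) (u : Fˣ) :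
    tRep {i} (hS hF u) (bv {i} 3) = (((u : F)⁻¹) ^ 2 ^ (i : ℕ)) • bv {i} 3 := by
  rw [natural_bv, Finset.sum_eq_single 3]
  · simp [hS, H, hVec]
  · intro r _ hr
    rw [show (hS hF u).1.1 r 3 = 0 from Matrix.diagonal_apply_ne _ hr, zero_pow (by positivity), zero_smul]
  · simp

theorem natural_ext (i : Fin (2 * m + 1)) {M : Type*} [AddCommMonoid M] [Module F M]
    {f f' : (Idx ({i} : Finset _) → F) →ₗ[F] M} (h : ∀ k, f (bv {i} k) = f' (bv {i} k)) : f = f' := by
  classical
  refine (Pi.basisFun F (Idx ({i} : Finset _))).ext fun a => ?_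
  rw [Pi.basisFun_apply, eq_cst i a]
  exact h _

theorem bilinear_natural (hm : 1 ≤ m) (ρ : Representation F (Sz F m) V) (hV : Fpf hF ρ)
    (i j : Fin (2 * m + 1))
    (β : (Idx ({i} : Finset _) → F) →ₗ[F] (Idx ({j} : Finset _) → F) →ₗ[F] V)
    (hβ : ∀ g x y, β (tRep {i} g x) (tRep {j} g y) = ρ g (β x y)) : β = 0 := by
  classical
  by_cases hij : i = j
  · subst hij
    obtain ⟨u, hu⟩ := exists_unit_ne_one hm hF
    have h03 : β (bv {i} 0) (bv {i} 3) = 0 := by
      refine hV.torus u hu _ ?_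
      rw [← hβ, natural_hS_top, natural_hS_bot]
      simp only [map_smul, LinearMap.smul_apply, smul_smul]
      rw [← mul_pow, inv_mul_cancel₀ u.ne_zero, one_pow, one_smul]
    have h0 : β (bv {i} 0) = 0 := by
      refine LinearMap.ext_on_range (span_bot hF ({i} : Finset _)) fun p => ?_
      have := hβ (tS hF p.1 p.2) (bv {i} 0) (bv {i} 3)
      rw [tRep_tS_top hF, h03, map_zero] at this
      rw [this, LinearMap.zero_apply]
    have htop := (tRep_irred hF ({i} : Finset _)).2 (LinearMap.ker β) (fun g x hx => by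
      rw [LinearMap.mem_ker] at hx ⊢
      refine LinearMap.ext fun y => ?_
      rw [← rep_apply_inv (tRep {i} : Representation F (Sz F m) _) g y, hβ, hx]
      simp) _ (LinearMap.mem_ker.2 h0) (bv_ne _ 0)
    exact LinearMap.ker_eq_top.1 htop
  · let P : Finset (Fin (2 * m + 1)) := {i, j}
    let iP : ↥P := ⟨i, by simp [P]⟩
    let jP : ↥P := ⟨j, by simp [P]⟩
    have hcov : ∀ k : ↥P, k = iP ∨ k = jP := fun k => by
      rcases Finset.mem_insert.1 k.2 with h | h
      exacts [Or.inl (Subtype.ext h), Or.inr (Subtype.ext (Finset.mem_singleton.1 h))]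
    have hne : iP ≠ jP := fun e => hij (congrArg Subtype.val e)
    let L : (Idx P → F) →ₗ[F] V :=
      Fintype.linearCombination F fun a => β (bv {i} (a iP)) (bv {j} (a jP))
    have hLb : ∀ a, L (Pi.single a 1) = β (bv {i} (a iP)) (bv {j} (a jP)) := fun a => by
      rw [Fintype.linearCombination_apply_single, one_smul]
    have hLe : ∀ g x, L (tRep P g x) = ρ g (L x) := by
      intro g
      have : L.comp (tRep P g) = (ρ g).comp L := by
        refine (Pi.basisFun F (Idx P)).ext fun b => ?_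
        rw [Pi.basisFun_apply, LinearMap.comp_apply, LinearMap.comp_apply, hLb, ← hβ, natural_bv,
          natural_bv, Fintype.linearCombination_apply]
        simp only [tRep_single, map_sum, map_smul, LinearMap.sum_apply, LinearMap.smul_apply,
          Finset.smul_sum, smul_smul]
        rw [← Fintype.sum_prod_type']
        refine Fintype.sum_bijective (fun a : Idx P => (a jP, a iP)) ?_ _ _ fun a => ?_
        · refine (Fintype.bijective_iff_injective_and_card _).2 ⟨fun a a' e => funext fun k => ?_, ?_⟩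
          · simp only [Prod.mk.injEq] at e
            rcases hcov k with rfl | rfl
            exacts [e.2, e.1]
          · rw [Fintype.card_prod, Fintype.card_fun, Fintype.card_coe, Finset.card_pair hij]
            simp
        · congr 1
          rw [tens_apply, Fintype.prod_eq_mul iP jP hne fun k hk => ?_]
          · ring
          · rcases hcov k with h | h
            exacts [absurd h hk.1, absurd h hk.2]
      exact fun x => LinearMap.congr_fun this x
    have hker : LinearMap.ker L = ⊤ := by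
      obtain ⟨v, hv, hvy⟩ := exists_yFixed hF P (by simp [P, Finset.card_pair hij])
      refine (tRep_irred hF P).2 _ (fun g x hx => ?_) v ?_ hv
      · rw [LinearMap.mem_ker] at hx ⊢
        rw [hLe, hx, map_zero]
      · rw [LinearMap.mem_ker]
        exact hV.five _ (by rw [← hLe, hvy])
    refine natural_ext i fun r => natural_ext j fun s => ?_
    have := hLb fun k => if k = iP then r else s
    rw [LinearMap.mem_ker.1 (hker ▸ Submodule.mem_top)] at this
    simpa [hne.symm] using this.symm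

variable {W W' : Type*} [AddCommGroup W] [Module F W] [AddCommGroup W'] [Module F W']

theorem bilinear_irred (hm : 1 ≤ m) {σ : Representation F (Sz F m) W}
    {τ : Representation F (Sz F m) W'} (ρ : Representation F (Sz F m) V) [Finite W] [Finite W']
    (hσ : IsIrred σ) (hτ : IsIrred τ) (hσf : Fpf hF σ) (hτf : Fpf hF τ) (hV : Fpf hF ρ)
    (β : W →ₗ[F] W' →ₗ[F] V) (hβ : ∀ g x y, β (σ g x) (τ g y) = ρ g (β x y)) : β = 0 := by
  obtain ⟨i, ψ, hψ⟩ := exists_twist hF hm σ hσ hσf
  obtain ⟨j, φ, hφ⟩ := exists_twist hF hm τ hτ hτf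
  have h0 := bilinear_natural hm ρ hV i j (β.compl₁₂ ψ.toLinearMap φ.toLinearMap) fun g x y => by
    simp only [LinearMap.compl₁₂_apply, LinearEquiv.coe_coe, hψ, hφ, hβ]
  ext x y
  have := LinearMap.congr_fun (LinearMap.congr_fun h0 (ψ.symm x)) (φ.symm y)
  simpa using this

theorem bilinear_zero (hm : 1 ≤ m) {σ : Representation F (Sz F m) W}
    {τ : Representation F (Sz F m) W'} (ρ : Representation F (Sz F m) V) [Finite W] [Finite W']
    (hσf : Fpf hF σ) (hτf : Fpf hF τ) (hV : Fpf hF ρ)
    (β : W →ₗ[F] W' →ₗ[F] V) (hβ : ∀ g x y, β (σ g x) (τ g y) = ρ g (β x y)) : β = 0 := by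
  have hU : IsInv σ (LinearMap.ker β) := fun g x hx => by
    rw [LinearMap.mem_ker] at hx ⊢
    ext y
    rw [← rep_apply_inv τ g y, hβ, hx]
    simp
  by_contra hne
  obtain ⟨x, hx⟩ : ∃ x, β x ≠ 0 := by
    by_contra h
    push Not at h
    exact hne (LinearMap.ext h)
  haveI : Finite (W ⧸ LinearMap.ker β) := Finite.of_surjective _ (Submodule.Quotient.mk_surjective _)
  let β' : (W ⧸ LinearMap.ker β) →ₗ[F] W' →ₗ[F] V := (LinearMap.ker β).liftQ β le_rfl
  have hβ' : ∀ g x y, β' (quotRep σ _ hU g x) (τ g y) = ρ g (β' x y) := fun g x y => by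
    obtain ⟨x, rfl⟩ := Submodule.Quotient.mk_surjective _ x
    exact hβ g x y
  obtain ⟨S, hS, hSi⟩ := exists_irred_sub (quotRep σ _ hU)
    ⟨Submodule.Quotient.mk x, fun e => hx (LinearMap.mem_ker.1 ((Submodule.Quotient.mk_eq_zero _).1 e))⟩
  set γ := β'.comp S.subtype with hγ
  have hγe : ∀ g s y, γ (subRep _ S hS g s) (τ g y) = ρ g (γ s y) := fun g s y => hβ' g s.1 y
  -- the right kernel
  have hU' : IsInv τ (LinearMap.ker γ.flip) := fun g y hy => by
    rw [LinearMap.mem_ker] at hy ⊢
    ext s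
    rw [LinearMap.flip_apply, ← rep_apply_inv (subRep _ S hS) g s, hγe,
      show γ (subRep _ S hS g⁻¹ s) y = 0 from LinearMap.congr_fun hy _]
    simp
  have hγ0 : γ = 0 := by
    by_contra hne'
    haveI : Finite (W' ⧸ LinearMap.ker γ.flip) :=
      Finite.of_surjective _ (Submodule.Quotient.mk_surjective _)
    let δ : (W' ⧸ LinearMap.ker γ.flip) →ₗ[F] S →ₗ[F] V := (LinearMap.ker γ.flip).liftQ γ.flip le_rfl
    have hδ : ∀ g y s, δ (quotRep τ _ hU' g y) (subRep _ S hS g s) = ρ g (δ y s) := fun g y s => by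
      obtain ⟨y, rfl⟩ := Submodule.Quotient.mk_surjective _ y
      exact hγe g s y
    obtain ⟨y, hy⟩ : ∃ y, γ.flip y ≠ 0 := by
      by_contra h
      push Not at h
      exact hne' (LinearMap.ext fun s => LinearMap.ext fun y => LinearMap.congr_fun (h y) s)
    obtain ⟨T, hT, hTi⟩ := exists_irred_sub (quotRep τ _ hU')
      ⟨Submodule.Quotient.mk y, fun e => hy (LinearMap.mem_ker.1 ((Submodule.Quotient.mk_eq_zero _).1 e))⟩
    have h0 := bilinear_irred hm (σ := subRep _ T hT) (τ := subRep _ S hS) ρ hTi hSi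
      ((hτf.quot _ hU').sub T hT) ((hσf.quot _ hU).sub S hS) hV (δ.comp T.subtype)
      fun g t s => hδ g t.1 s
    obtain ⟨t, ht⟩ := hTi.1
    obtain ⟨⟨t, hmem⟩, rfl⟩ : ∃ t', t' = t := ⟨t, rfl⟩
    obtain ⟨z, rfl⟩ := Submodule.Quotient.mk_surjective _ t
    refine ht (Subtype.ext ((Submodule.Quotient.mk_eq_zero _).2 (LinearMap.mem_ker.2 ?_)))
    exact LinearMap.congr_fun h0 ⟨_, hmem⟩
  obtain ⟨s, hs⟩ := hSi.1
  obtain ⟨⟨s, hmem⟩, rfl⟩ : ∃ s', s' = s := ⟨s, rfl⟩
  obtain ⟨z, rfl⟩ := Submodule.Quotient.mk_surjective _ s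
  refine hs (Subtype.ext ((Submodule.Quotient.mk_eq_zero _).2 (LinearMap.mem_ker.2 ?_)))
  exact LinearMap.congr_fun hγ0 ⟨_, hmem⟩

/-- **Equivariant biadditive maps between fixed-point-free modules vanish.** -/
theorem biadditive_zero (hm : 1 ≤ m) (hF : Fintype.card F = 2 ^ (2 * m + 1))
    {A B C : Type*} [AddCommGroup A] [AddCommGroup B] [AddCommGroup C] [Finite A] [Finite B] [Finite C]
    (hC : ∀ c : C, c + c = 0) {σ : Representation ℤ (Sz F m) A} {τ : Representation ℤ (Sz F m) B}
    {ρ : Representation ℤ (Sz F m) C} (hσ : Fpf hF σ) (hτ : Fpf hF τ) (hρ : Fpf hF ρ)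
    (β : A →ₗ[ℤ] B →ₗ[ℤ] C) (hβ : ∀ g a b, β (σ g a) (τ g b) = ρ g (β a b)) : β = 0 := by
  haveI : Finite (F ⊗[ℤ] A) := Module.finite_of_finite F
  haveI : Finite (F ⊗[ℤ] B) := Module.finite_of_finite F
  let β₁ : A →ₗ[ℤ] (F ⊗[ℤ] B →ₗ[F] F ⊗[ℤ] C) := (LinearMap.baseChangeHom ℤ F B C).comp β
  let βF : F ⊗[ℤ] A →ₗ[F] F ⊗[ℤ] B →ₗ[F] F ⊗[ℤ] C := LinearMap.liftBaseChange F β₁
  have h0 : βF = 0 := by
    refine bilinear_zero hm (σ := bcRep F σ) (τ := bcRep F τ) (bcRep F ρ) (hσ.baseChange hF F)
      (hτ.baseChange hF F) (hρ.baseChange hF F) βF fun g x y => ?_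
    induction x using TensorProduct.induction_on with
    | zero => simp
    | tmul a x =>
      induction y using TensorProduct.induction_on with
      | zero => simp
      | tmul b y =>
        simp only [bcRep_tmul, βF, LinearMap.liftBaseChange_tmul, LinearMap.smul_apply, β₁,
          LinearMap.comp_apply]
        simp [TensorProduct.smul_tmul', bcRep_tmul, hβ]
      | add y y' h h' => simp [map_add, h, h']
    | add x x' h h' => simp [map_add, h, h']
  ext a b
  apply one_tmul_inj (F := F) hC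
  simpa [βF, β₁] using LinearMap.congr_fun (LinearMap.congr_fun h0 ((1 : F) ⊗ₜ a)) ((1 : F) ⊗ₜ b)

end Cfsg.Agent.MartineauSz
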