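import Mathlib

/-!
Witt vectors of length two over a field of characteristic two, with explicit formulas.
-/

set_option autoImplicit false

namespace Cfsg.Agent.MartineauSz

/-- Witt vectors of length two in characteristic two. -/
@[ext]
structure W2 (F : Type*) where
  /-- The residue. -/
  res : F
  /-- The second component. -/
  sec : F

namespace W2

variable {F : Type*} [Field F] [CharP F 2]

instance : Zero (W2 F) := ⟨⟨0, 0⟩⟩
instance : One (W2 F) := ⟨⟨1, 0⟩⟩
instance : Add (W2 F) := ⟨fun x y => ⟨x.res + y.res, x.sec + y.sec + x.res * y.res⟩⟩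
instance : Neg (W2 F) := ⟨fun x => ⟨x.res, x.sec + x.res * x.res⟩⟩
instance : Mul (W2 F) := ⟨fun x y => ⟨x.res * y.res, x.res * x.res * y.sec + y.res * y.res * x.sec⟩⟩

omit [CharP F 2] in
@[simp] theorem zero_res : (0 : W2 F).res = 0 := rfl
omit [CharP F 2] in
@[simp] theorem zero_sec : (0 : W2 F).sec = 0 := rfl
omit [CharP F 2] in
@[simp] theorem one_res : (1 : W2 F).res = 1 := rfl
omit [CharP F 2] in
@[simp] theorem one_sec : (1 : W2 F).sec = 0 := rfl
omit [CharP F 2] in
@[simp] theorem add_res (x y : W2 F) : (x + y).res = x.res + y.res := rfl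
omit [CharP F 2] in
@[simp] theorem add_sec (x y : W2 F) : (x + y).sec = x.sec + y.sec + x.res * y.res := rfl
omit [CharP F 2] in
@[simp] theorem neg_res (x : W2 F) : (-x).res = x.res := rfl
omit [CharP F 2] in
@[simp] theorem neg_sec (x : W2 F) : (-x).sec = x.sec + x.res * x.res := rfl
omit [CharP F 2] in
@[simp] theorem mul_res (x y : W2 F) : (x * y).res = x.res * y.res := rfl
omit [CharP F 2] in
@[simp] theorem mul_sec (x y : W2 F) :
    (x * y).sec = x.res * x.res * y.sec + y.res * y.res * x.sec := rfl

instance : CommRing (W2 F) where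
  add_assoc x y z := by ext <;> simp <;> ring
  zero_add x := by ext <;> simp
  add_zero x := by ext <;> simp
  add_comm x y := by ext <;> simp <;> ring
  nsmul := nsmulRec
  zsmul := zsmulRec
  neg_add_cancel x := by
    have h2 : (2 : F) = 0 := CharTwo.two_eq_zero
    ext <;> simp
    all_goals first | linear_combination x.res * h2 | linear_combination (x.sec + x.res * x.res) * h2
  left_distrib x y z := by
    have h2 : (2 : F) = 0 := CharTwo.two_eq_zero
    ext <;> simp
    · ring
    · linear_combination x.sec * y.res * z.res * h2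
  right_distrib x y z := by
    have h2 : (2 : F) = 0 := CharTwo.two_eq_zero
    ext <;> simp
    · ring
    · linear_combination x.res * y.res * z.sec * h2
  zero_mul x := by ext <;> simp
  mul_zero x := by ext <;> simp
  mul_assoc x y z := by ext <;> simp <;> ring
  one_mul x := by ext <;> simp
  mul_one x := by ext <;> simp
  mul_comm x y := by ext <;> simp <;> ring

/-- The residue map. -/
def resHom : W2 F →+* F where
  toFun := W2.res
  map_one' := rfl
  map_mul' _ _ := rfl
  map_zero' := rfl
  map_add' _ _ := rfl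

/-- The multiplicative lift. -/
def tau : F →* W2 F where
  toFun a := ⟨a, 0⟩
  map_one' := rfl
  map_mul' a b := by ext <;> simp

theorem tau_res (a : F) : (tau (F := F) a).res = a := rfl

theorem tau_zero : tau (0 : F) = (0 : W2 F) := rfl

theorem two_eq : (2 : W2 F) = ⟨0, 1⟩ := by
  rw [← one_add_one_eq_two]
  ext <;> simp [CharTwo.add_self_eq_zero]

theorem four_eq : (4 : W2 F) = 0 := by
  rw [show (4 : W2 F) = 2 * 2 by norm_num, two_eq]
  ext <;> simp

theorem two_mul_eq (x : W2 F) : 2 * x = ⟨0, x.res * x.res⟩ := by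
  rw [two_eq]
  ext <;> simp

/-- The inclusion of the second component. -/
def secHom : F →+ W2 F where
  toFun a := ⟨0, a⟩
  map_zero' := rfl
  map_add' a b := by ext <;> simp

theorem tau_add_tau (a b : F) : tau a + tau b = tau (a + b) + secHom (a * b) := by
  ext <;> simp [tau, secHom]

variable [Fintype F]

instance : Finite (W2 F) := Finite.of_equiv (F × F) ⟨fun p => ⟨p.1, p.2⟩, fun x => (x.res, x.sec), fun _ => rfl, fun _ => rfl⟩

omit [CharP F 2] in
theorem card_W2 : Nat.card (W2 F) = Nat.card F * Nat.card F := by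
  rw [← Nat.card_prod]
  exact Nat.card_congr ⟨fun x => (x.res, x.sec), fun p => ⟨p.1, p.2⟩, fun _ => rfl, fun _ => rfl⟩

/-- Teichmüller sum over all elements. -/
theorem sum_tau (h : 2 < Fintype.card F) : ∑ x : F, tau x = (0 : W2 F) := by
  classical
  obtain ⟨g, hg0, hg1⟩ : ∃ g : F, g ≠ 0 ∧ g ≠ 1 := by
    by_contra hcon
    push Not at hcon
    have hle : Fintype.card F ≤ ({0, 1} : Finset F).card := by
      rw [← Finset.card_univ]
      refine Finset.card_le_card fun a _ => ?_
      rcases eq_or_ne a 0 with ha | ha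
      · simp [ha]
      · simp [hcon a ha]
    have := Finset.card_le_two (a := (0 : F)) (b := 1)
    omega
  set S := ∑ x : F, tau x
  have h1 : tau g * S = S := by
    rw [Finset.mul_sum]
    exact Fintype.sum_equiv (Equiv.mulLeft₀ g hg0) _ _ fun x => (map_mul tau g x).symm
  have h2 : (tau g - 1) * S = 0 := by rw [sub_mul, h1, one_mul, sub_self]
  have hr : S.res = 0 := by
    have := congrArg resHom h2
    rw [map_mul, map_sub, map_one, map_zero] at this
    exact (mul_eq_zero.1 this).resolve_left (sub_ne_zero.2 hg1)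
  have hs : (tau g - 1).res * (tau g - 1).res * S.sec = 0 := by
    have := congrArg W2.sec h2
    simpa [hr] using this
  ext
  · exact hr
  · refine (mul_eq_zero.1 hs).resolve_left ?_
    have : (tau g - 1).res = g - 1 := map_sub resHom (tau g) 1
    rw [this]
    exact mul_ne_zero (sub_ne_zero.2 hg1) (sub_ne_zero.2 hg1)

/-- The Kloosterman-like sum of lifts. -/
theorem sum_tau_pair (h : 2 < Fintype.card F) : ∑ v : F, tau (v⁻¹ * (1 + v)⁻¹) = (2 : W2 F) := by
  classical
  set w : F → F := fun v => v⁻¹ * (1 + v)⁻¹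
  have h11 : (1 : F) + 1 = 0 := CharTwo.add_self_eq_zero 1
  have hpt : ∀ v : F, tau v⁻¹ + tau (1 + v)⁻¹ =
      tau (w v) + secHom (w v) + ((if v = 0 then 1 else 0) + if v = 1 then 1 else 0) := by
    intro v
    by_cases h0 : v = 0
    · subst h0
      simp [w, tau_zero]
    by_cases h1 : v = 1
    · subst h1
      simp [w, h11, tau_zero]
    · have h2 : 1 + v ≠ 0 := fun e => h1 (by rw [← CharTwo.add_eq_zero, add_comm]; exact e)
      rw [if_neg h0, if_neg h1, add_zero, add_zero, tau_add_tau]
      congr 2
      simp only [w]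
      field_simp
      linear_combination v * (CharTwo.two_eq_zero : (2 : F) = 0)
  have hT := Finset.sum_congr (s₁ := (Finset.univ : Finset F)) rfl fun v _ => hpt v
  have hA : ∑ v : F, tau v⁻¹ = (0 : W2 F) := by
    rw [← sum_tau h]
    exact Fintype.sum_equiv (Equiv.inv F) _ _ fun v => rfl
  have hB : ∑ v : F, tau (1 + v)⁻¹ = (0 : W2 F) := by
    rw [← hA]
    exact Fintype.sum_equiv (Equiv.addLeft (1 : F)) _ _ fun v => rfl
  simp only [Finset.sum_add_distrib, hA, hB, Finset.sum_ite_eq', Finset.mem_univ, if_true, add_zero,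
    ← map_sum] at hT
  have hw : ∑ v, w v = 0 := by
    have h4 := congrArg resHom hT
    simp only [map_add, map_sum, map_one, map_zero, show ∀ x : F, resHom (tau x) = x from fun _ => rfl,
      show ∀ x : F, resHom (secHom x) = 0 from fun _ => rfl, h11, Finset.sum_const_zero, add_zero] at h4
    exact h4.symm
  rw [hw, map_zero, add_zero, one_add_one_eq_two] at hT
  have h5 : ∑ v, tau (w v) = -2 := eq_neg_of_add_eq_zero_left hT.symm
  rw [h5, neg_eq_iff_add_eq_zero, show (2 : W2 F) + 2 = 4 by norm_num, four_eq]

end W2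

end Cfsg.Agent.MartineauSz
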