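import Cfsg.Agent.Lib.MartineauSz.Bilinear
import Cfsg.Agent.Lib.MartineauSz.WittTwo

/-!
Representations of Suzuki groups in characteristic two, part 4: a fixed-point-free module of exponent
four has exponent two.
-/

set_option autoImplicit false

namespace Cfsg.Agent.MartineauSz

open Cfsg Matrix Cfsg.Agent.SZ TensorProduct

theorem end_mul_apply {K G V : Type*} [CommRing K] [Monoid G] [AddCommGroup V] [Module K V]
    (ρ : Representation K G V) (g h : G) (v : V) : ρ (g * h) v = ρ g (ρ h v) := by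
  rw [map_mul, Module.End.mul_apply]

variable {F : Type*} [Field F] [Fintype F] [CharP F 2]

/-- Coordinates of Witt vectors over the integers modulo four. -/
theorem exists_coords :
    ∃ (n : ℕ) (b : Fin n → W2 F) (c : W2 F → Fin n → ℕ),
      (∀ r, r = ∑ i, c r i • b i) ∧ ∀ r s i, c (r + s) i ≡ c r i + c s i [MOD 4] := by
  classical
  letI : Algebra (ZMod 2) F := ZMod.algebra F 2
  letI : Module (ZMod 4) (W2 F) := AddCommGroup.zmodModule fun x => by
    rw [nsmul_eq_mul, Nat.cast_ofNat, W2.four_eq, zero_mul]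
  let B := Module.finBasis (ZMod 2) F
  set n := Module.finrank (ZMod 2) F
  let b : Fin n → W2 F := fun i => W2.tau (B i)
  let L : (Fin n → ZMod 4) →ₗ[ZMod 4] W2 F := Fintype.linearCombination (ZMod 4) b
  have hres : ∀ x : F, ∃ c, (L c).res = x := fun x => by
    refine ⟨fun i => ((B.repr x i).val : ZMod 4), ?_⟩
    rw [Fintype.linearCombination_apply]
    change W2.resHom (∑ i, _) = _
    rw [map_sum]
    conv_rhs => rw [← B.sum_repr x]
    refine Finset.sum_congr rfl fun i _ => ?_
    rw [Nat.cast_smul_eq_nsmul, map_nsmul]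
    conv_rhs => rw [← ZMod.natCast_zmod_val (B.repr x i), Nat.cast_smul_eq_nsmul]
    rfl
  have hsurj : Function.Surjective L := by
    intro r
    obtain ⟨c, hc⟩ := hres r.res
    obtain ⟨s, hs⟩ := FiniteField.isSquare_of_char_two (ringChar.eq F 2) (r - L c).sec
    obtain ⟨d, hd⟩ := hres s
    refine ⟨c + (d + d), ?_⟩
    rw [map_add, map_add, ← two_mul, W2.two_mul_eq, hd, ← hs]
    have h0 : (r - L c).res = 0 := (map_sub W2.resHom r (L c)).trans (by
      show r.res - (L c).res = 0
      rw [hc, sub_self])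
    rw [show (⟨0, (r - L c).sec⟩ : W2 F) = r - L c from W2.ext h0.symm rfl, add_sub_cancel]
  have hbij : Function.Bijective L := by
    haveI := Fintype.ofFinite (W2 F)
    refine (Fintype.bijective_iff_surjective_and_card _).2 ⟨hsurj, ?_⟩
    rw [← Nat.card_eq_fintype_card, ← Nat.card_eq_fintype_card, W2.card_W2, Nat.card_eq_fintype_card,
      Nat.card_eq_fintype_card, Fintype.card_fun, ZMod.card, Fintype.card_fin,
      Module.card_eq_pow_finrank (K := ZMod 2) (V := F), ZMod.card, ← mul_pow]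
    norm_num [n]
  let e := LinearEquiv.ofBijective L hbij
  refine ⟨n, b, fun r i => (e.symm r i).val, fun r => ?_, fun r s i => ?_⟩
  · conv_lhs => rw [← e.apply_symm_apply r]
    show L _ = _
    rw [Fintype.linearCombination_apply]
    refine Finset.sum_congr rfl fun i _ => ?_
    conv_lhs => rw [← ZMod.natCast_zmod_val (e.symm r i), Nat.cast_smul_eq_nsmul]
  · rw [← ZMod.natCast_eq_natCast_iff, Nat.cast_add]
    simp [ZMod.natCast_zmod_val]

variable {m : ℕ} (hF : Fintype.card F = 2 ^ (2 * m + 1))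

omit [CharP F 2] in
theorem tS_zero_zero : (tS hF (0 : F) 0 : Sz F m) = 1 := Subtype.ext T_zero

omit [CharP F 2] in
theorem tS_add_center (a b : F) : tS hF 0 a * tS hF 0 b = (tS hF 0 (a + b) : Sz F m) :=
  Subtype.ext (by
    show T m (0 : F) a * T m 0 b = T m 0 (a + b)
    rw [T_mul hF]
    simp)

/-- **Fixed-point-free modules of exponent four have exponent two.** -/
theorem exponent_two (hm : 1 ≤ m) {Q : Type*} [AddCommGroup Q] [Finite Q]
    (h4 : ∀ q : Q, 4 • q = 0) (ρ : Representation ℤ (Sz F m) Q) (hρ : Fpf hF ρ) :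
    ∀ q : Q, q + q = 0 := by
  classical
  by_contra hcon
  push Not at hcon
  obtain ⟨q₀, hq₀⟩ := hcon
  -- the doubled module
  let P : Submodule ℤ Q := LinearMap.range ((2 : ℤ) • LinearMap.id : Q →ₗ[ℤ] Q)
  let dbl : Q →ₗ[ℤ] P := ((2 : ℤ) • LinearMap.id : Q →ₗ[ℤ] Q).rangeRestrict
  have hdbl : ∀ q, (dbl q : Q) = q + q := fun q => two_zsmul q
  have hP2 : ∀ p : P, p + p = 0 := by
    rintro ⟨_, q, rfl⟩
    refine Subtype.ext ?_
    show (2 : ℤ) • q + (2 : ℤ) • q = 0
    rw [← add_smul, show (2 : ℤ) + 2 = ((4 : ℕ) : ℤ) by norm_num, natCast_zsmul, h4]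
  have hP : ∀ g, ∀ p ∈ P, ρ g p ∈ P := by
    rintro g _ ⟨q, rfl⟩
    exact ⟨ρ g q, by simp⟩
  let σ : Representation ℤ (Sz F m) P :=
    { toFun := fun g => (ρ g).restrict (hP g)
      map_one' := LinearMap.ext fun p => Subtype.ext (by simp)
      map_mul' := fun g h => LinearMap.ext fun p => Subtype.ext (by simp) }
  have hσ : Fpf hF σ := ⟨fun u hu p hp => Subtype.ext (hρ.torus u hu p.1 (congrArg Subtype.val hp)),
    fun p hp => Subtype.ext (hρ.five p.1 (congrArg Subtype.val hp))⟩
  have hσd : ∀ g q, σ g (dbl q) = dbl (ρ g q) := fun g q => Subtype.ext (by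
    show ρ g (dbl q : Q) = _
    rw [hdbl, hdbl, map_add])
  -- a twist of the natural module in the doubled module
  haveI : Finite (F ⊗[ℤ] P) := Module.finite_of_finite F
  obtain ⟨U, hU, hUi⟩ := exists_irred_sub (bcRep F σ) ⟨(1 : F) ⊗ₜ dbl q₀, fun e =>
    hq₀ (by rw [← hdbl, one_tmul_inj hP2 e]; rfl)⟩
  obtain ⟨j, ψ, hψ⟩ := exists_twist hF hm _ hUi ((hσ.baseChange hF F).sub U hU)
  let ι : (Idx ({j} : Finset (Fin (2 * m + 1))) → F) →ₗ[F] F ⊗[ℤ] P := U.subtype.comp ψ.toLinearMap
  have hι : ∀ g w, bcRep F σ g (ι w) = ι (tRep {j} g w) := fun g w => by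
    simp [ι, hψ, coe_subRep]
  have hιinj : Function.Injective ι := Subtype.val_injective.comp ψ.injective
  -- reduction
  let δ : W2 F ⊗[ℤ] Q →ₗ[ℤ] F ⊗[ℤ] P :=
    TensorProduct.map (W2.resHom (F := F)).toAddMonoidHom.toIntLinearMap dbl
  have hδt : ∀ r q, δ (r ⊗ₜ q) = r.res ⊗ₜ dbl q := fun r q => rfl
  have hδs : ∀ (r : W2 F) z, δ (r • z) = r.res • δ z := by
    intro r z
    induction z using TensorProduct.induction_on with
    | zero => simp
    | tmul s q => rw [TensorProduct.smul_tmul', hδt, hδt, TensorProduct.smul_tmul']; rfl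
    | add z z' h h' => simp [smul_add, h, h']
  have hδe : ∀ g z, δ (bcRep (W2 F) ρ g z) = bcRep F σ g (δ z) := by
    intro g z
    induction z using TensorProduct.induction_on with
    | zero => simp
    | tmul s q => rw [bcRep_tmul, hδt, hδt, bcRep_tmul, hσd]
    | add z z' h h' => simp [h, h']
  have hδsurj : Function.Surjective δ :=
    TensorProduct.map_surjective (fun x => ⟨W2.tau x, rfl⟩) (LinearMap.surjective_rangeRestrict _)
  have hδ2 : ∀ z : W2 F ⊗[ℤ] Q, z + z = 0 → δ z = 0 := by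
    intro z hz
    obtain ⟨n, b, c, hc, hadd⟩ := exists_coords (F := F)
    have hmod : ∀ {a a' : ℕ} (q : Q), a ≡ a' [MOD 4] → a • q = a' • q := fun {a a'} q h => by
      conv_lhs => rw [← Nat.mod_add_div a 4]
      conv_rhs => rw [← Nat.mod_add_div a' 4]
      rw [add_smul, add_smul, mul_smul, mul_smul, h4, h4, h]
    let L : Fin n → (W2 F ⊗[ℤ] Q →+ Q) := fun i => TensorProduct.liftAddHom
      (AddMonoidHom.mk' (fun r => nsmulAddMonoidHom (c r i)) fun r s => AddMonoidHom.ext fun q => by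
        simp only [nsmulAddMonoidHom_apply, AddMonoidHom.add_apply]
        rw [hmod q (hadd r s i), add_smul])
      fun k r q => by
        let f : W2 F →+ Q := AddMonoidHom.mk' (fun r => c r i • q) fun r s => by
          rw [hmod q (hadd r s i), add_smul]
        show f (k • r) = c r i • (k • q)
        rw [map_zsmul]
        exact smul_comm k (c r i) q
    have hz' : ∀ z, z = ∑ i, b i ⊗ₜ[ℤ] L i z := by
      intro z
      induction z using TensorProduct.induction_on with
      | zero => simp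
      | tmul r q =>
        conv_lhs => rw [hc r, TensorProduct.sum_tmul]
        refine Finset.sum_congr rfl fun i _ => ?_
        rw [TensorProduct.liftAddHom_tmul]
        exact TensorProduct.smul_tmul _ _ _
      | add z z' h h' =>
        simp only [map_add, TensorProduct.tmul_add, Finset.sum_add_distrib, ← h, ← h']
    rw [hz' z, map_sum]
    refine Finset.sum_eq_zero fun i _ => ?_
    have : dbl (L i z) = 0 := Subtype.ext (by rw [hdbl, ← map_add, hz, map_zero]; rfl)
    rw [hδt, this, TensorProduct.tmul_zero]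
  -- the torus
  obtain ⟨u, hu⟩ := exists_unit_ne_one hm hF
  set N := Fintype.card F - 1 with hN
  have hq : 8 ≤ Fintype.card F := by
    rw [hF]
    exact le_trans (by norm_num) (Nat.pow_le_pow_right (by norm_num) (show 3 ≤ 2 * m + 1 by omega))
  have huN : u ^ N = 1 := by
    rw [hN, ← Fintype.card_units]
    exact pow_card_eq_one
  set α : F := (u : F) ^ 2 ^ (j : ℕ) with hα
  have hα0 : α ≠ 0 := pow_ne_zero _ u.ne_zero
  set D := bcRep (W2 F) ρ (hS hF u) with hD
  have hDfix : ∀ z, D z = z → z = 0 := (hρ.baseChange hF (W2 F)).torus u hu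
  -- an exact eigenvector over the bottom vector
  obtain ⟨w₀, hw₀⟩ := hδsurj (ι (bv {j} 3))
  have hhS : ∀ k : ℕ, (hS hF (u ^ k) : Sz F m) = hS hF u ^ k := fun k => by
    induction k with
    | zero => rw [pow_zero, pow_zero]; exact Subtype.ext H_one
    | succ k ih => rw [pow_succ, pow_succ, ← ih]; exact Subtype.ext (H_mul _ _)
  set f : ℕ → W2 F ⊗[ℤ] Q := fun k =>
    W2.tau (α ^ k) • bcRep (W2 F) ρ (hS hF (u ^ k)) w₀ with hf
  set w := ∑ k ∈ Finset.range N, f k with hw
  have hDw : D w = W2.tau α⁻¹ • w := by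
    have hstep : ∀ k, D (f k) = W2.tau α⁻¹ • f (k + 1) := fun k => by
      simp only [hf, hD, map_smul]
      rw [← end_mul_apply, hhS, hhS, ← pow_succ', smul_smul, ← map_mul, pow_succ α k,
        show α⁻¹ * (α ^ k * α) = α ^ k by field_simp]
    rw [hw, map_sum, Finset.sum_congr rfl fun k _ => hstep k, ← Finset.smul_sum]
    congr 1
    have h1 := Finset.sum_range_succ' f N
    have h2 := Finset.sum_range_succ f N
    have hf0 : f N = f 0 := by
      simp only [hf, huN, pow_zero]
      rw [hN, FiniteField.pow_card_sub_one_eq_one _ hα0]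
    rw [h2, hf0] at h1
    exact (add_right_cancel h1).symm
  have hδw : δ w = ι (bv {j} 3) := by
    rw [hw, map_sum, Finset.sum_congr rfl (g := fun _ => ι (bv {j} 3)) fun k _ => ?_]
    · rw [Finset.sum_const, Finset.card_range, ← Nat.cast_smul_eq_nsmul F,
        show ((N : ℕ) : F) = 1 by simp [hN, Nat.cast_sub (show 1 ≤ Fintype.card F by omega), CharTwo.neg_eq],
        one_smul]
    · simp only [hf]
      rw [hδs, hδe, hw₀, hι, natural_hS_bot, map_smul, W2.tau_res, smul_smul, hα,
        Units.val_pow_eq_pow_val, ← pow_mul, inv_pow, ← pow_mul, mul_comm k, mul_inv_cancel₀, one_smul]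
      exact pow_ne_zero _ u.ne_zero
  -- the operators
  let A : F → W2 F ⊗[ℤ] Q →ₗ[W2 F] W2 F ⊗[ℤ] Q := fun b => bcRep (W2 F) ρ (tS hF 0 b)
  set e := 2 ^ (m + (j : ℕ)) with he
  let X : ℕ → W2 F ⊗[ℤ] Q → W2 F ⊗[ℤ] Q := fun k z => ∑ b, W2.tau (b⁻¹ ^ k) • A b z
  have hX1 : X e w = 0 := by
    refine hDfix _ ?_
    have hstep : ∀ b, D (A b w) = W2.tau α⁻¹ • A (th m (u : F) * b) w := fun b => by
      show bcRep (W2 F) ρ (hS hF u) (bcRep (W2 F) ρ (tS hF 0 b) w) = _
      rw [← end_mul_apply, hS_tS, mul_zero, end_mul_apply, ← hD, hDw, map_smul]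
    simp only [X, map_sum, map_smul, hstep, smul_smul, ← map_mul]
    refine Fintype.sum_equiv (Equiv.mulLeft₀ (th m (u : F)) fun h => u.ne_zero (th_eq_zero.1 h)) _ _
      fun b => ?_
    show W2.tau _ • _ = W2.tau ((th m (u : F) * b)⁻¹ ^ e) • _
    congr 2
    have hμ : th m (u : F) ^ e = α := by
      rw [hα, th, ← pow_mul, he, ← pow_add, show m + 1 + (m + (j : ℕ)) = (2 * m + 1) + j by omega,
        pow_add 2 (2 * m + 1), pow_mul, ← hF, FiniteField.pow_card]
    rw [mul_inv, mul_pow, inv_pow (th m (u : F)), hμ, mul_comm]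
  have hbij : ∀ k, Function.Bijective fun x : F => x ^ 2 ^ k := fun k => by
    haveI : Fact (Nat.Prime 2) := ⟨Nat.prime_two⟩
    exact Finite.injective_iff_bijective.1 (iterateFrobenius_inj F 2 k)
  have hX2 : X e (X e w) = X (2 * e) w + X (2 * e) w := by
    have hK : ∀ c : F, ∑ b, W2.tau (b⁻¹ ^ e) * W2.tau ((c + b)⁻¹ ^ e) =
        W2.tau (c⁻¹ ^ (2 * e)) + W2.tau (c⁻¹ ^ (2 * e)) := by
      intro c
      rcases eq_or_ne c 0 with rfl | hc
      · simp only [zero_add, ← map_mul]
        rw [_root_.inv_zero, zero_pow (by positivity), W2.tau_zero, add_zero,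
          ← W2.sum_tau (F := F) (by omega)]
        refine Fintype.sum_bijective (fun b : F => b⁻¹ ^ (2 * e)) ?_ _ _ fun b => by
          rw [two_mul e, pow_add]
        rw [show 2 * e = 2 ^ (m + j + 1) by rw [he, pow_succ']]
        exact (hbij _).comp (Equiv.inv F).bijective
      · rw [← two_mul (W2.tau _), ← W2.sum_tau_pair (F := F) (by omega), Finset.sum_mul]
        rw [← Equiv.sum_comp (Equiv.mulLeft₀ c hc)]
        refine Fintype.sum_bijective (fun v : F => v ^ e) (hbij _) _ _ fun v => ?_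
        show W2.tau ((c * v)⁻¹ ^ e) * W2.tau ((c + c * v)⁻¹ ^ e) = _
        haveI : Fact (Nat.Prime 2) := ⟨Nat.prime_two⟩
        rw [← map_mul, ← map_mul, ← mul_one_add c v, mul_inv, mul_inv,
          show (1 : F) + v ^ e = (1 + v) ^ e by rw [he, add_pow_char_pow, one_pow]]
        congr 1
        rw [mul_pow, mul_pow, ← inv_pow v, ← inv_pow (1 + v)]
        ring
    calc X e (X e w) = ∑ b, ∑ c, (W2.tau (b⁻¹ ^ e) * W2.tau ((c + b)⁻¹ ^ e)) • A c w := by
          simp only [X, map_sum, map_smul, Finset.smul_sum, smul_smul]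
          refine Finset.sum_congr rfl fun b _ =>
            Fintype.sum_equiv (Equiv.addLeft b) _ _ fun b' => ?_
          show _ • A b (A b' w) =
            (W2.tau (b⁻¹ ^ e) * W2.tau ((b + b' + b)⁻¹ ^ e)) • A (b + b') w
          rw [show b + b' + b = b' by
            rw [add_comm b b', add_assoc, CharTwo.add_self_eq_zero, add_zero]]
          congr 1
          show bcRep (W2 F) ρ (tS hF 0 b) (bcRep (W2 F) ρ (tS hF 0 b') w) = _
          rw [← end_mul_apply, tS_add_center]
      _ = ∑ c, (W2.tau (c⁻¹ ^ (2 * e)) + W2.tau (c⁻¹ ^ (2 * e))) • A c w := by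
          rw [Finset.sum_comm]
          simp only [← Finset.sum_smul, hK]
      _ = _ := by simp only [X, add_smul, Finset.sum_add_distrib]
  have hzero : δ (X (2 * e) w) = 0 := hδ2 _ (by rw [← hX2, hX1]; simp [X])
  have hval : δ (X (2 * e) w) =
      ι (∑ b, (b⁻¹ ^ (2 * e) : F) • tRep {j} (tS hF 0 b) (bv {j} 3)) := by
    simp only [X, A, map_sum, map_smul]
    refine Finset.sum_congr rfl fun b _ => ?_
    rw [hδs, W2.tau_res, hδe, hδw, hι]
  rw [hval] at hzero
  have h0 := congrFun (hιinj (hzero.trans (map_zero ι).symm)) (cst {j} 0)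
  rw [Finset.sum_apply] at h0
  have hterm : ∀ b : F, ((b⁻¹ ^ (2 * e) : F) • tRep {j} (tS hF 0 b) (bv {j} 3)) (cst {j} 0) =
      1 - if b = 0 then 1 else 0 := by
    intro b
    rw [Pi.smul_apply, bv, tRep_single, tens_apply,
      Fintype.prod_eq_single (⟨j, Finset.mem_singleton_self j⟩ : ↥({j} : Finset _))
        fun k hk => absurd (Subtype.ext (Finset.mem_singleton.1 k.2)) hk]
    show b⁻¹ ^ (2 * e) • tMat m 0 b 0 3 ^ 2 ^ (j : ℕ) = _
    rw [show tMat m (0 : F) b 0 3 = zf m 0 b by simp [tMat], smul_eq_mul]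
    rcases eq_or_ne b 0 with rfl | hb
    · rw [if_pos rfl, sub_self, _root_.inv_zero, zero_pow (by positivity), zero_mul]
    · rw [if_neg hb, sub_zero, show zf m (0 : F) b = b ^ 2 ^ (m + 1) by simp [zf, th], ← pow_mul,
        ← pow_add, show m + 1 + (j : ℕ) = m + (j : ℕ) + 1 by omega, pow_succ', ← he, ← mul_pow,
        inv_mul_cancel₀ hb, one_pow]
  rw [Finset.sum_congr rfl fun b _ => hterm b, Finset.sum_sub_distrib] at h0
  simp at h0

end Cfsg.Agent.MartineauSz
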