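import Cfsg.Agent.Lib.MartineauSz.Tensor

/-!
Representations of Suzuki groups in characteristic two, part 2: the irreducible modules on which the
torus and an element of order five act fixed-point-freely are the twists of the natural module.
-/

set_option autoImplicit false

namespace Cfsg.Agent.MartineauSz

open Cfsg Matrix Cfsg.Agent.SZ

variable {F : Type*} [Field F] [Fintype F] {m : ℕ} (hF : Fintype.card F = 2 ^ (2 * m + 1))

/-- `T(0,1) W T(0,1) W` over the prime field. -/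
def yTwo : Matrix (Fin 4) (Fin 4) (ZMod 2) := tMat 0 0 1 * wMat * tMat 0 0 1 * wMat

theorem yTwo_checks : yTwo ^ 5 = 1 ∧
    (∑ l : Fin 5, (yTwo ^ (l : ℕ)) 0 0 * (yTwo ^ (l : ℕ)) 0 3) = 1 := by
  decide +kernel

/-- The element of order five. -/
def yEl : Sz F m := tS hF 0 1 * wS hF * tS hF 0 1 * wS hF

include hF in
theorem yEl_val [CharP F 2] :
    (yEl (m := m) hF).1.1 = yTwo.map (ZMod.castHom (dvd_refl 2) F) := by
  have ht : (tMat 0 (0 : ZMod 2) 1).map (ZMod.castHom (dvd_refl 2) F) = tMat m (0 : F) 1 := by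
    ext r s
    fin_cases r <;> fin_cases s <;> simp [tMat, zf, th]
  have hw : (wMat : Matrix (Fin 4) (Fin 4) (ZMod 2)).map (ZMod.castHom (dvd_refl 2) F) = wMat := by
    ext r s
    fin_cases r <;> fin_cases s <;> simp [wMat]
  rw [yTwo, Matrix.map_mul, Matrix.map_mul, Matrix.map_mul, ht, hw]
  rfl

include hF in
theorem yEl_pow_five : yEl (m := m) hF ^ 5 = 1 := by
  haveI := charTwo hF
  refine Subtype.ext (sl_ext ?_)
  rw [SubmonoidClass.coe_pow, Matrix.SpecialLinearGroup.coe_pow, yEl_val,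
    show yTwo.map (ZMod.castHom (dvd_refl 2) F) = (ZMod.castHom (dvd_refl 2) F).mapMatrix yTwo from rfl,
    ← map_pow, yTwo_checks.1, map_one]
  rfl

/-- Torus and order-five element fix no nonzero vector. -/
structure Fpf {K V : Type*} [Semiring K] [AddCommMonoid V] [Module K V]
    (ρ : Representation K (Sz F m) V) : Prop where
  torus : ∀ u : Fˣ, u ≠ 1 → ∀ v : V, ρ (hS hF u) v = v → v = 0
  five : ∀ v : V, ρ (yEl hF) v = v → v = 0

variable [CharP F 2]

include hF in
/-- A product of at least two twists has a vector fixed by the element of order five. -/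
theorem exists_yFixed (I : Finset (Fin (2 * m + 1))) (hI : 2 ≤ I.card) :
    ∃ v : Idx I → F, v ≠ 0 ∧ tRep I (yEl hF) v = v := by
  classical
  obtain ⟨i₀, hi₀, j₀, hj₀, hne⟩ := Finset.one_lt_card.1 hI
  set y := yEl (m := m) hF
  set φ := ZMod.castHom (dvd_refl 2) F with hφ
  let b : Idx I := fun i => if i.1 = i₀ then 0 else 3
  refine ⟨∑ l : Fin 5, tRep I (y ^ (l : ℕ)) (Pi.single b 1), fun e => ?_, ?_⟩
  · have h0 := congrFun e (cst I 0)
    rw [Finset.sum_apply] at h0
    have hterm : ∀ l : Fin 5, tRep I (y ^ (l : ℕ)) (Pi.single b 1) (cst I 0) =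
        φ ((yTwo ^ (l : ℕ)) 0 0 * (yTwo ^ (l : ℕ)) 0 3) := by
      intro l
      have hv : (y ^ (l : ℕ)).1.1 = (yTwo ^ (l : ℕ)).map φ := by
        rw [SubmonoidClass.coe_pow, Matrix.SpecialLinearGroup.coe_pow, yEl_val]
        exact (map_pow φ.mapMatrix yTwo l).symm
      rw [tRep_single, tens_apply, hv]
      have h01 : ∀ (z : ZMod 2) (k : ℕ), φ z ^ 2 ^ k = φ z := fun z k => by
        obtain rfl | rfl : z = 0 ∨ z = 1 := by revert z; decide
        · rw [map_zero, zero_pow (by positivity)]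
        · rw [map_one, one_pow]
      simp only [Matrix.map_apply, h01, cst, ← map_prod]
      congr 1
      rw [← Finset.mul_prod_erase Finset.univ _ (Finset.mem_univ (⟨i₀, hi₀⟩ : ↥I))]
      simp only [b, if_pos rfl]
      congr 1
      have hrest : ∀ i ∈ Finset.univ.erase (⟨i₀, hi₀⟩ : ↥I),
          (yTwo ^ (l : ℕ)) 0 (if i.1 = i₀ then 0 else 3) = (yTwo ^ (l : ℕ)) 0 3 := fun i hi => by
        rw [if_neg fun h => (Finset.mem_erase.1 hi).1 (Subtype.ext h)]
      rw [Finset.prod_congr rfl hrest, Finset.prod_const]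
      have hpos : (Finset.univ.erase (⟨i₀, hi₀⟩ : ↥I)).card ≠ 0 := by
        rw [Finset.card_erase_of_mem (Finset.mem_univ _), Finset.card_univ, Fintype.card_coe]
        omega
      obtain h | h : (yTwo ^ (l : ℕ)) 0 3 = 0 ∨ (yTwo ^ (l : ℕ)) 0 3 = 1 := by
        generalize (yTwo ^ (l : ℕ)) 0 3 = z
        revert z; decide
      · rw [h, zero_pow hpos]
      · rw [h, one_pow]
    rw [Finset.sum_congr rfl fun l _ => hterm l, ← map_sum, yTwo_checks.2, map_one] at h0
    exact one_ne_zero h0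
  · rw [map_sum]
    refine Fintype.sum_equiv (finRotate 5) _ _ fun l => ?_
    rw [← rep_mul_apply, ← pow_succ']
    refine congrArg (fun z => tRep I z (Pi.single b 1)) ?_
    fin_cases l <;> first | rfl | exact (yEl_pow_five hF).trans (pow_zero _).symm

omit [Fintype F] [CharP F 2] in
/-- Binary digits. -/
theorem exists_digits : ∀ (n k : ℕ), k < 2 ^ n → ∃ I : Finset ℕ, I ⊆ Finset.range n ∧ ∑ i ∈ I, 2 ^ i = k := by
  intro n
  induction n with
  | zero => intro k hk; exact ⟨∅, by simp, by simp at hk; simp [hk]⟩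
  | succ n ih =>
    intro k hk
    rw [pow_succ] at hk
    rcases Nat.lt_or_ge k (2 ^ n) with h | h
    · obtain ⟨I, hI, e⟩ := ih k h
      exact ⟨I, hI.trans (Finset.range_mono n.le_succ), e⟩
    · obtain ⟨I, hI, e⟩ := ih (k - 2 ^ n) (by omega)
      have hn : n ∉ I := fun h => by simpa using hI h
      refine ⟨insert n I, Finset.insert_subset (by simp) (hI.trans (Finset.range_mono n.le_succ)), ?_⟩
      rw [Finset.sum_insert hn, e]
      omega

section Induced

variable {V : Type*} [AddCommGroup V] [Module F V]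

/-- The map to functions on the group attached to a functional. -/
def phi (ρ : Representation F (Sz F m) V) (lam : V →ₗ[F] F) : V →ₗ[F] (Sz F m → F) where
  toFun v g := lam (ρ g v)
  map_add' v w := funext fun g => by simp
  map_smul' c v := funext fun g => by simp

/-- A functional of weight `χ` fixed by the translations. -/
structure IsWeight (ρ : Representation F (Sz F m) V) (lam : V →ₗ[F] F) (χ : Fˣ → F) : Prop where
  ne : lam ≠ 0
  trans : ∀ a b v, lam (ρ (tS hF a b) v) = lam v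
  torus : ∀ u v, lam (ρ (hS hF u) v) = χ u * lam v

variable {ρ : Representation F (Sz F m) V} {lam : V →ₗ[F] F} {χ : Fˣ → F}

omit [Fintype F] [CharP F 2] in
theorem phi_apply (v : V) (g : Sz F m) : phi ρ lam v g = lam (ρ g v) := rfl

omit [Fintype F] [CharP F 2] in
theorem phi_rep (v : V) (h g : Sz F m) : phi ρ lam (ρ h v) g = phi ρ lam v (g * h) := by
  rw [phi_apply, phi_apply, rep_mul_apply]

omit [CharP F 2] in
theorem IsWeight.injective (hl : IsWeight hF ρ lam χ) (hρ : IsIrred ρ) :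
    Function.Injective (phi ρ lam) := by
  rw [← LinearMap.ker_eq_bot]
  by_contra hne
  obtain ⟨v, hv, hv0⟩ := Submodule.exists_mem_ne_zero_of_ne_bot hne
  have htop := hρ.2 _ (fun g w hw => by
    rw [LinearMap.mem_ker] at hw ⊢
    funext x
    rw [phi_rep, hw]
    rfl) v hv hv0
  apply hl.ne
  ext w
  have hw : phi ρ lam w = 0 := LinearMap.mem_ker.1 (htop ▸ Submodule.mem_top)
  have := congrFun hw 1
  rw [phi_apply, map_one, Module.End.one_apply] at this
  simpa using this

include hF in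
omit [CharP F 2] in
/-- Elements fixing the point at infinity. -/
theorem exists_ts_hs (hm : 1 ≤ m) {g : Sz F m}
    (hg : g ∈ MulAction.stabilizer (Sz F m) (suzukiPointInfinity F)) :
    ∃ a b u, g = tS hF a b * hS hF u := by
  obtain ⟨a, b, u, h⟩ := exists_TH_of_fix hm hF g.2 hg
  exact ⟨a, b, u, Subtype.ext h⟩

include hF in
omit [CharP F 2] in
theorem bruhat' (hm : 1 ≤ m) (g : Sz F m) :
    (∃ a b u, g = tS hF a b * hS hF u) ∨
      ∃ a b c d u, g = tS hF a b * wS hF * (tS hF c d * hS hF u) := by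
  rcases bruhat hm hF g.2 with ⟨a, b, u, h⟩ | ⟨a, b, c, d, u, h⟩
  exacts [Or.inl ⟨a, b, u, Subtype.ext h⟩, Or.inr ⟨a, b, c, d, u, Subtype.ext h⟩]

omit [CharP F 2] in
theorem hS_tS (u : Fˣ) (a b : F) : hS hF u * tS hF a b =
    tS hF ((u : F) ^ 2 / th m (u : F) * a) (th m (u : F) * b) * hS hF u :=
  Subtype.ext (H_conj_T hF u a b)

omit [CharP F 2] in
theorem wS_hS (u : Fˣ) : wS hF * hS hF u = (hS hF u⁻¹ * wS hF : Sz F m) :=
  Subtype.ext (W_conj_H u)

omit [CharP F 2] in
theorem exists_hS_conj (u : Fˣ) (a b : F) :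
    ∃ a' b', tS hF a b * hS hF u = (hS hF u * tS hF a' b' : Sz F m) := by
  have h1 : (u : F) ≠ 0 := u.ne_zero
  have h2 : th m (u : F) ≠ 0 := fun h => h1 (th_eq_zero.1 h)
  refine ⟨th m (u : F) / (u : F) ^ 2 * a, b / th m (u : F), ?_⟩
  rw [hS_tS]
  congr 2 <;> field_simp

/-- Induced functions. -/
structure IsInd (χ : Fˣ → F) (f : Sz F m → F) : Prop where
  trans : ∀ a b g, f (tS hF a b * g) = f g
  torus : ∀ u g, f (hS hF u * g) = χ u * f g

omit [CharP F 2] in
theorem IsWeight.isInd (hl : IsWeight hF ρ lam χ) (v : V) : IsInd hF χ (phi ρ lam v) where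
  trans a b g := by rw [phi_apply, phi_apply, rep_mul_apply, hl.trans]
  torus u g := by rw [phi_apply, phi_apply, rep_mul_apply, hl.torus]

/-- Functions invariant under translation on the right. -/
def RightFixed (f : Sz F m → F) : Prop := ∀ a b g, f (g * tS hF a b) = f g

omit [CharP F 2] in
/-- Right invariant induced functions are determined by two values. -/
theorem ind_ext (hm : 1 ≤ m) {χ : Fˣ → F} {f f' : Sz F m → F} (hf : IsInd hF χ f)
    (hf' : IsInd hF χ f') (hr : RightFixed hF f) (hr' : RightFixed hF f')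
    (h1 : f 1 = f' 1) (hw : f (wS hF) = f' (wS hF)) : f = f' := by
  funext g
  rcases bruhat' hF hm g with ⟨a, b, u, rfl⟩ | ⟨a, b, c, d, u, rfl⟩
  · rw [hf.trans, hf'.trans, ← mul_one (hS hF u), hf.torus, hf'.torus, h1]
  · obtain ⟨c', d', e⟩ := exists_hS_conj hF u c d
    rw [e, mul_assoc (tS hF a b), hf.trans, hf'.trans, ← mul_assoc, hr, hr', wS_hS, hf.torus,
      hf'.torus, hw]

omit [CharP F 2] in
/-- An invariant space of induced functions containing one supported on the point stabiliser is everything. -/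
theorem mem_of_support (hm : 1 ≤ m) {χ : Fˣ → F} {U : Submodule F (Sz F m → F)}
    (hU : ∀ h : Sz F m, ∀ f ∈ U, (fun g => f (g * h)) ∈ U) {η : Sz F m → F} (hη : η ∈ U)
    (hηi : IsInd hF χ η) (h1 : η 1 ≠ 0)
    (hsupp : ∀ g : Sz F m, g • suzukiPointInfinity F ≠ suzukiPointInfinity F → η g = 0)
    {f : Sz F m → F} (hf : IsInd hF χ f) : f ∈ U := by
  classical
  haveI : Finite (Sz F m) := inferInstance
  set B := MulAction.stabilizer (Sz F m) (suzukiPointInfinity F) with hB
  haveI : Fintype (Sz F m ⧸ B) := Fintype.ofFinite _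
  have key : f = ∑ q : Sz F m ⧸ B, (f q.out⁻¹ / η 1) • fun g => η (g * q.out) := by
    funext g
    rw [Finset.sum_apply, Fintype.sum_eq_single ((g⁻¹ : Sz F m) : Sz F m ⧸ B)]
    · set h := Quotient.out ((g⁻¹ : Sz F m) : Sz F m ⧸ B) with hh
      have hmem : g * h ∈ B := by
        have : ((g⁻¹ : Sz F m) : Sz F m ⧸ B) = h := (QuotientGroup.out_eq' _).symm
        simpa using QuotientGroup.eq.1 this
      obtain ⟨a, b, u, hu⟩ := exists_ts_hs hF hm hmem
      have hg : g = tS hF a b * (hS hF u * h⁻¹) := by rw [← mul_assoc, ← hu, mul_inv_cancel_right]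
      rw [Pi.smul_apply, smul_eq_mul, hu, hηi.trans, ← mul_one (hS hF u), hηi.torus]
      conv_lhs => rw [hg, hf.trans, hf.torus]
      field_simp
    · intro q hq
      rw [Pi.smul_apply, hsupp (g * q.out) fun e => hq ?_, smul_zero]
      rw [← QuotientGroup.out_eq' q, QuotientGroup.eq]
      have h' : g * q.out ∈ B := e
      simpa using B.inv_mem h'
  rw [key]
  exact Submodule.sum_mem _ fun q _ => U.smul_mem _ (hU _ _ hη)

include hF in
omit [CharP F 2] in
/-- Either everything, or the function living on the big cell. -/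
theorem dichotomy [CharP F 2] [Finite V] (hm : 1 ≤ m) (hρ : IsIrred ρ) (hl : IsWeight hF ρ lam χ)
    {u₀ : Fˣ} (hu₀ : χ u₀ ≠ χ u₀⁻¹) :
    (∀ f, IsInd hF χ f → f ∈ LinearMap.range (phi ρ lam)) ∨
      ∃ v, v ≠ 0 ∧ RightFixed hF (phi ρ lam v) ∧ phi ρ lam v 1 = 0 := by
  obtain ⟨v, hv⟩ := hρ.1
  obtain ⟨w, -, hw0, hwfix⟩ := exists_fixed (isPGroup_uGrp (m := m) hF)
    (ρ.comp (uGrp hF).subtype) ⊤ (fun _ _ _ => Submodule.mem_top)
    (fun e => hv ((Submodule.mem_bot F).1 (e ▸ Submodule.mem_top)))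
  have hfix : ∀ a b, ρ (tS hF a b) w = w := fun a b => hwfix (uEl hF (a, b))
  have hr : RightFixed hF (phi ρ lam w) := fun a b g => by rw [← phi_rep, hfix]
  by_cases h1 : phi ρ lam w 1 = 0
  · exact Or.inr ⟨w, hw0, hr, h1⟩
  left
  intro f hf
  set η := phi ρ lam (ρ (hS hF u₀) w - χ u₀⁻¹ • w) with hη
  have hηe : ∀ g, η g = phi ρ lam w (g * hS hF u₀) - χ u₀⁻¹ * phi ρ lam w g := fun g => by
    rw [hη, map_sub, map_smul, Pi.sub_apply, Pi.smul_apply, smul_eq_mul, phi_rep]
  have hwi := hl.isInd hF w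
  refine mem_of_support hF hm (U := LinearMap.range (phi ρ lam)) (η := η) ?_ ⟨_, rfl⟩
    (hl.isInd hF _) ?_ ?_ hf
  · rintro h _ ⟨x, rfl⟩
    exact ⟨ρ h x, funext fun g => phi_rep x h g⟩
  · rw [hηe, one_mul, ← mul_one (hS hF u₀), hwi.torus, ← sub_mul]
    exact mul_ne_zero (sub_ne_zero.2 hu₀) h1
  · intro g hg
    rcases bruhat' hF hm g with ⟨a, b, u, rfl⟩ | ⟨a, b, c, d, u, rfl⟩
    · exact absurd (by
        show (T m a b * H m u) • suzukiPointInfinity F = _
        rw [mul_smul, H_smul_inf, T_smul_inf]) hg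
    · obtain ⟨c', d', e⟩ := exists_hS_conj hF u c d
      rw [e, mul_assoc (tS hF a b), hηe, hwi.trans, mul_assoc (tS hF a b), hwi.trans,
        ← mul_assoc (wS hF), wS_hS, mul_assoc (hS hF u⁻¹ * wS hF), mul_assoc (hS hF u⁻¹),
        hwi.torus, mul_assoc (hS hF u⁻¹), hwi.torus, hr]
      obtain ⟨c'', d'', e'⟩ := exists_hS_conj hF u₀ c' d'
      rw [e', ← mul_assoc, wS_hS, mul_assoc, hwi.torus, hr]
      ring

omit [CharP F 2] in
/-- Two irreducible modules with functionals of the same weight are equivalent. -/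
theorem exists_equiv [CharP F 2] [Finite V] {W : Type*} [AddCommGroup W] [Module F W] [Finite W]
    {σ : Representation F (Sz F m) W} {mu : W →ₗ[F] F} (hm : 1 ≤ m) (hρ : IsIrred ρ) (hσ : IsIrred σ)
    (hl : IsWeight hF ρ lam χ) (hμ : IsWeight hF σ mu χ) {u₀ : Fˣ} (hu₀ : χ u₀ ≠ χ u₀⁻¹) :
    ∃ ψ : W ≃ₗ[F] V, ∀ g w, ψ (σ g w) = ρ g (ψ w) := by
  set A := LinearMap.range (phi ρ lam) with hA
  set B := LinearMap.range (phi σ mu) with hB
  have hcommon : ∃ f, f ≠ 0 ∧ f ∈ A ∧ f ∈ B := by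
    have hne : ∀ {v : W}, v ≠ 0 → phi σ mu v ≠ 0 := fun hv e =>
      hv (hμ.injective hF hσ (e.trans (map_zero _).symm))
    have hne' : ∀ {v : V}, v ≠ 0 → phi ρ lam v ≠ 0 := fun hv e =>
      hv (hl.injective hF hρ (e.trans (map_zero _).symm))
    rcases dichotomy hF hm hρ hl hu₀ with h | ⟨v, hv0, hvr, hv1⟩
    · obtain ⟨w, hw⟩ := hσ.1
      exact ⟨_, hne hw, h _ (hμ.isInd hF w), w, rfl⟩
    rcases dichotomy hF hm hσ hμ hu₀ with h | ⟨w, hw0, hwr, hw1⟩
    · exact ⟨_, hne' hv0, ⟨v, rfl⟩, h _ (hl.isInd hF v)⟩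
    have hz : ∀ f : Sz F m → F, IsInd hF χ f → RightFixed hF f → f 1 = 0 → f ≠ 0 →
        f (wS hF) ≠ 0 := fun f hf hr h1 hf0 hw => hf0 (ind_ext hF hm hf
      ⟨fun _ _ _ => rfl, fun _ _ => (mul_zero _).symm⟩ hr (fun _ _ _ => rfl) h1 hw)
    have hvw := hz _ (hl.isInd hF v) hvr hv1 (hne' hv0)
    have hww := hz _ (hμ.isInd hF w) hwr hw1 (hne hw0)
    refine ⟨phi ρ lam v, hne' hv0, ⟨v, rfl⟩,
      (phi ρ lam v (wS hF) / phi σ mu w (wS hF)) • w, ?_⟩
    refine ind_ext hF hm (hμ.isInd hF _) (hl.isInd hF v) (fun a b g => ?_) hvr ?_ ?_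
    · simp only [map_smul, Pi.smul_apply, hwr a b g]
    · simp [hv1, hw1]
    · simp [div_mul_cancel₀ _ hww]
  have hAB : A = B := by
    obtain ⟨f, hf0, ⟨v, rfl⟩, w, hw⟩ := hcommon
    have h1 := hρ.2 (B.comap (phi ρ lam)) (fun g x hx => by
      obtain ⟨y, hy⟩ := hx
      exact ⟨σ g y, funext fun z => by rw [phi_rep, phi_rep, hy]⟩) v ⟨w, hw⟩
      (fun e => hf0 (by rw [e, map_zero]))
    have h2 := hσ.2 (A.comap (phi σ mu)) (fun g x hx => by
      obtain ⟨y, hy⟩ := hx
      exact ⟨ρ g y, funext fun z => by rw [phi_rep, phi_rep, hy]⟩) w ⟨v, hw.symm⟩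
      (fun e => hf0 (by rw [← hw, e, map_zero]))
    refine le_antisymm ?_ ?_
    · rintro _ ⟨x, rfl⟩
      exact (h1 ▸ Submodule.mem_top : x ∈ B.comap (phi ρ lam))
    · rintro _ ⟨x, rfl⟩
      exact (h2 ▸ Submodule.mem_top : x ∈ A.comap (phi σ mu))
  let ψ : W ≃ₗ[F] V := (LinearEquiv.ofInjective _ (hμ.injective hF hσ)).trans
    ((LinearEquiv.ofEq B A hAB.symm).trans (LinearEquiv.ofInjective _ (hl.injective hF hρ)).symm)
  have hψ : ∀ x, phi ρ lam (ψ x) = phi σ mu x := fun x => by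
    exact congrArg Subtype.val ((LinearEquiv.ofInjective _ (hl.injective hF hρ)).apply_symm_apply
      ((LinearEquiv.ofEq B A hAB.symm) (LinearEquiv.ofInjective _ (hμ.injective hF hσ) x)))
  refine ⟨ψ, fun g w => hl.injective hF hρ (funext fun z => ?_)⟩
  rw [hψ, phi_rep, phi_rep, hψ]

end Induced

/-- The weight of the bottom vector. -/
def chi (I : Finset (Fin (2 * m + 1))) (u : Fˣ) : F := ∏ i : ↥I, ((u : F)⁻¹) ^ 2 ^ (i.1.1)

include hF in
theorem isWeight_bot (I : Finset (Fin (2 * m + 1))) :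
    IsWeight hF (tRep I : Representation F (Sz F m) _) (LinearMap.proj (cst I 3)) (chi I) where
  ne e := one_ne_zero (α := F) (by simpa [bv] using LinearMap.congr_fun e (bv I 3))
  trans a b v := tRep_tS_bot hF I a b v
  torus u v := by
    show tRep I (hS hF u) v (cst I 3) = chi I u * v (cst I 3)
    rw [tRep_hS]
    rfl

include hF in
/-- Irreducible fixed-point-free modules are twists of the natural module. -/
theorem exists_twist (hm : 1 ≤ m) {V : Type*} [AddCommGroup V] [Module F V] [Finite V]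
    (ρ : Representation F (Sz F m) V) (hρ : IsIrred ρ) (hfpf : Fpf hF ρ) :
    ∃ (i : Fin (2 * m + 1)) (ψ : (Idx ({i} : Finset _) → F) ≃ₗ[F] V),
      ∀ g w, ψ (tRep {i} g w) = ρ g (ψ w) := by
  classical
  obtain ⟨g₀, hg₀⟩ := IsCyclic.exists_generator (α := Fˣ)
  have hq : 8 ≤ Fintype.card F := by
    rw [hF]
    exact le_trans (by norm_num) (Nat.pow_le_pow_right (by norm_num) (show 3 ≤ 2 * m + 1 by omega))
  have hg₀1 : g₀ ≠ 1 := by
    intro e
    haveI : Nontrivial Fˣ := Finite.one_lt_card_iff_nontrivial.1 (by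
      rw [Nat.card_units, Nat.card_eq_fintype_card]; omega)
    obtain ⟨x, hx⟩ := exists_ne (1 : Fˣ)
    have := hg₀ x
    rw [e, Subgroup.zpowers_one_eq_bot, Subgroup.mem_bot] at this
    exact hx this
  -- the functionals fixed by the translations
  let δ : Representation F (Sz F m) (V →ₗ[F] F) := ρ.dual
  haveI : Finite (V →ₗ[F] F) := Finite.of_injective (fun l => (l : V → F)) DFunLike.coe_injective
  let L : Submodule F (V →ₗ[F] F) :=
    { carrier := {l | ∀ a b v, l (ρ (tS hF a b) v) = l v}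
      add_mem' := fun h h' a b v => by simp [h a b v, h' a b v]
      zero_mem' := fun a b v => rfl
      smul_mem' := fun c l h a b v => by simp [h a b v] }
  obtain ⟨l, hl, hl0⟩ : ∃ l ∈ L, l ≠ 0 := by
    obtain ⟨v, hv⟩ := hρ.1
    have hne : (⊤ : Submodule F (V →ₗ[F] F)) ≠ ⊥ := by
      intro e
      refine hv ((Module.forall_dual_apply_eq_zero_iff F v).1 fun f => ?_)
      rw [show f = 0 from (Submodule.mem_bot F).1 (e ▸ Submodule.mem_top)]
      rfl
    obtain ⟨l, -, hl0, hfix⟩ := exists_fixed (isPGroup_uGrp (m := m) hF)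
      (δ.comp (uGrp hF).subtype) ⊤ (fun _ _ _ => Submodule.mem_top) hne
    refine ⟨l, fun a b v => ?_, hl0⟩
    have := LinearMap.congr_fun (hfix (uEl hF (a, b))⁻¹) v
    simpa [δ, uEl, Representation.dual_apply, Module.Dual.transpose_apply] using this
  -- an eigenvector of the torus among them
  set N := Fintype.card F - 1 with hN
  have hcard : Fintype.card Fˣ = N := Fintype.card_units F
  let P : Fˣ → (V →ₗ[F] F) := fun c =>
    ∑ k ∈ Finset.range N, ((c : F) ^ k) • (l.comp (ρ (hS hF (g₀ ^ k))))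
  have hhS : ∀ u v : Fˣ, (hS hF (u * v) : Sz F m) = hS hF u * hS hF v := fun u v =>
    Subtype.ext (H_mul u v)
  have hhS1 : (hS hF 1 : Sz F m) = 1 := Subtype.ext H_one
  have hgN : g₀ ^ N = 1 := by rw [← hcard]; exact pow_card_eq_one
  have hsum : ∑ c : Fˣ, P c = -l := by
    simp only [P]
    rw [Finset.sum_comm]
    simp only [← Finset.sum_smul]
    rw [Finset.sum_eq_single 0]
    · have : (∑ c : Fˣ, ((c : F) ^ 0)) = -1 := by
        simp [Finset.card_univ, hcard, hN, Nat.cast_sub (show 1 ≤ Fintype.card F by omega)]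
      rw [this, pow_zero, hhS1, map_one, neg_one_smul]
      rfl
    · intro k hk hk0
      have : (∑ c : Fˣ, ((c : F) ^ k)) = 0 := by
        rw [FiniteField.sum_pow_units, if_neg]
        rw [← hN]
        exact fun hd => hk0 (Nat.eq_zero_of_dvd_of_lt hd (Finset.mem_range.1 hk))
      rw [this, zero_smul]
    · intro h; simp at h; omega
  obtain ⟨c, hc⟩ : ∃ c, P c ≠ 0 := by
    by_contra hcon
    push Not at hcon
    simp [hcon] at hsum
    exact hl0 hsum
  have hPL : ∀ c, P c ∈ L := by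
    intro c
    refine Submodule.sum_mem _ fun k _ => L.smul_mem _ fun a b v => ?_
    simp only [LinearMap.comp_apply]
    rw [← rep_mul_apply, hS_tS, rep_mul_apply, hl]
  set θ : F := ((c : F))⁻¹ with hθ
  have hPg : ∀ v, P c (ρ (hS hF g₀) v) = θ * P c v := by
    intro v
    have hc0 : (c : F) ≠ 0 := c.ne_zero
    have e : ∀ k, ((c : F) ^ k) * l (ρ (hS hF (g₀ ^ k)) (ρ (hS hF g₀) v)) =
        θ * ((c : F) ^ (k + 1) * l (ρ (hS hF (g₀ ^ (k + 1))) v)) := fun k => by
      rw [← rep_mul_apply, ← hhS, ← pow_succ, hθ, pow_succ (c : F)]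
      field_simp
    simp only [P, LinearMap.sum_apply, LinearMap.smul_apply, LinearMap.comp_apply,
      smul_eq_mul]
    rw [Finset.sum_congr rfl fun k _ => e k, ← Finset.mul_sum]
    congr 1
    let f : ℕ → F := fun k => (c : F) ^ k * l (ρ (hS hF (g₀ ^ k)) v)
    have h1 := Finset.sum_range_succ' f N
    have h2 := Finset.sum_range_succ f N
    have hf0 : f N = f 0 := by
      simp only [f, hgN, pow_zero]
      rw [hN, FiniteField.pow_card_sub_one_eq_one _ hc0]
    rw [h2, hf0] at h1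
    exact (add_right_cancel h1).symm
  have hθ1 : θ ≠ 1 := by
    intro e
    apply hc
    ext v
    obtain ⟨w, hw⟩ : ∃ w, ρ (hS hF g₀) w - w = v := by
      have hinj : Function.Injective fun w => ρ (hS hF g₀) w - w := fun w w' h => by
        have : ρ (hS hF g₀) (w - w') = w - w' := by
          rw [map_sub]; exact sub_eq_sub_iff_sub_eq_sub.1 h
        exact sub_eq_zero.1 (hfpf.torus g₀ hg₀1 _ this)
      exact (Finite.injective_iff_surjective.1 hinj) v
    rw [← hw, map_sub, hPg, e, one_mul, sub_self]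
    rfl
  -- the matching product of twists
  obtain ⟨k, hk, hkN⟩ : ∃ k, ((g₀ : F)⁻¹) ^ k = θ ∧ k < N := by
    obtain ⟨z, hz⟩ := hg₀ c
    have hord : orderOf g₀ = N := by
      rw [orderOf_eq_card_of_forall_mem_zpowers hg₀, Nat.card_eq_fintype_card, hcard]
    obtain ⟨k, hk, hkz⟩ : ∃ k < orderOf g₀, g₀ ^ k = c := by
      have hmem : c ∈ Submonoid.powers g₀ := by
        rw [mem_powers_iff_mem_zpowers]; exact ⟨z, hz⟩
      obtain ⟨k, hk⟩ := hmem
      exact ⟨k % orderOf g₀, Nat.mod_lt _ (orderOf_pos g₀), by rw [pow_mod_orderOf]; exact hk⟩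
    exact ⟨k, by rw [hθ, ← hkz, Units.val_pow_eq_pow_val, inv_pow], hord ▸ hk⟩
  obtain ⟨I₀, hI₀, hsumI⟩ := exists_digits (2 * m + 1) k (by rw [← hF]; omega)
  let I : Finset (Fin (2 * m + 1)) := Finset.univ.filter fun i => (i : ℕ) ∈ I₀
  have hIsum : ∑ i : ↥I, 2 ^ (i.1.1) = k := by
    rw [Finset.sum_coe_sort I (fun i => 2 ^ (i : ℕ)), ← hsumI]
    refine Finset.sum_bij (fun i _ => (i : ℕ)) (fun i hi => (Finset.mem_filter.1 hi).2)
      (fun i _ j _ h => Fin.ext h) (fun x hx => ?_) fun i _ => rfl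
    exact ⟨⟨x, Finset.mem_range.1 (hI₀ hx)⟩, Finset.mem_filter.2 ⟨Finset.mem_univ _, hx⟩, rfl⟩
  have hchi : ∀ u : Fˣ, chi I u = ((u : F)⁻¹) ^ k := fun u => by
    rw [chi, Finset.prod_pow_eq_pow_sum, hIsum]
  have hw : IsWeight hF ρ (P c) (chi I) := by
    refine ⟨hc, hPL c, fun u v => ?_⟩
    obtain ⟨r, rfl⟩ : ∃ r : ℕ, g₀ ^ r = u := Submonoid.mem_powers_iff _ _ |>.1
      (by rw [mem_powers_iff_mem_zpowers]; exact hg₀ u)
    induction r generalizing v with
    | zero => simp [hhS1, hchi]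
    | succ r ih =>
      rw [pow_succ, hhS, rep_mul_apply, ih, hPg, hchi, hchi, Units.val_mul, mul_inv, mul_pow, hk]
      ring
  have hne : chi I g₀ ≠ chi I g₀⁻¹ := by
    rw [hchi, hchi, hk, Units.val_inv_eq_inv_val, inv_inv]
    intro e
    have h0 : (g₀ : F) ≠ 0 := g₀.ne_zero
    have : θ * θ = 1 := by
      conv_lhs => arg 2; rw [e]
      rw [← hk, ← mul_pow, inv_mul_cancel₀ h0, one_pow]
    exact hθ1 (by rcases mul_self_eq_one_iff.1 this with h | h
                  · exact h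
                  · rw [h, CharTwo.neg_eq])
  obtain ⟨ψ, hψ⟩ := exists_equiv hF hm hρ (tRep_irred hF I) hw (isWeight_bot hF I) hne
  have hI1 : I.card = 1 := by
    rcases Nat.lt_trichotomy I.card 1 with h | h | h
    · exfalso
      have : I = ∅ := Finset.card_eq_zero.1 (by omega)
      apply hθ1
      rw [← hk, ← hIsum, this]
      simp
    · exact h
    · exfalso
      obtain ⟨v, hv, hvy⟩ := exists_yFixed hF I h
      exact hv (ψ.injective (by rw [map_zero]; exact hfpf.five _ (by rw [← hψ, hvy])))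
  obtain ⟨i, hi⟩ := Finset.card_eq_one.1 hI1
  revert ψ
  rw [hi]
  exact fun ψ hψ => ⟨i, ψ, hψ⟩

end Cfsg.Agent.MartineauSz
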