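import Cfsg.Agent.Lib.Sz.Sylow

/-!
Representations of Suzuki groups in characteristic two, part 1: the tensor products of twists of the
natural module, their fixed vectors and their irreducibility.
-/

set_option autoImplicit false

namespace Cfsg.Agent.MartineauSz

open Cfsg Matrix Cfsg.Agent.SZ

variable {F : Type*} [Field F]

section General

variable {G V : Type*} [Group G] [AddCommGroup V] [Module F V]

/-- Invariance of a subspace. -/
def IsInv (ρ : Representation F G V) (U : Submodule F V) : Prop := ∀ g, ∀ u ∈ U, ρ g u ∈ U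

/-- Irreducibility. -/
def IsIrred (ρ : Representation F G V) : Prop :=
  (∃ v : V, v ≠ 0) ∧ ∀ U : Submodule F V, IsInv ρ U → ∀ u ∈ U, u ≠ 0 → U = ⊤

theorem rep_inv_apply (ρ : Representation F G V) (g : G) (v : V) : ρ g⁻¹ (ρ g v) = v := by
  rw [← Module.End.mul_apply, ← map_mul, inv_mul_cancel, map_one, Module.End.one_apply]

theorem rep_apply_inv (ρ : Representation F G V) (g : G) (v : V) : ρ g (ρ g⁻¹ v) = v := by
  rw [← Module.End.mul_apply, ← map_mul, mul_inv_cancel, map_one, Module.End.one_apply]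

theorem rep_mul_apply (ρ : Representation F G V) (g h : G) (v : V) : ρ (g * h) v = ρ g (ρ h v) := by
  rw [map_mul, Module.End.mul_apply]

/-- A two-group fixes a nonzero vector in every nonzero finite invariant subspace. -/
theorem exists_fixed [CharP F 2] [Finite V] (hG : IsPGroup 2 G) (ρ : Representation F G V)
    (U : Submodule F V) (hU : IsInv ρ U) (h : U ≠ ⊥) : ∃ u ∈ U, u ≠ 0 ∧ ∀ g, ρ g u = u := by
  classical
  letI : MulAction G U :=
    { smul := fun g u => ⟨ρ g u, hU g u u.2⟩
      one_smul := fun u => Subtype.ext (by show ρ 1 (u : V) = u; rw [map_one, Module.End.one_apply])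
      mul_smul := fun g g' u => Subtype.ext (rep_mul_apply ρ g g' u) }
  have hd : 2 ∣ Nat.card U := by
    obtain ⟨u, hu, hu0⟩ := Submodule.exists_mem_ne_zero_of_ne_bot h
    have h2 : addOrderOf (⟨u, hu⟩ : U) = 2 := by
      haveI : Fact (Nat.Prime 2) := ⟨Nat.prime_two⟩
      refine addOrderOf_eq_prime ?_ (fun e => hu0 (congrArg Subtype.val e))
      apply Subtype.ext
      show (2 : ℕ) • u = 0
      rw [two_nsmul, ← two_smul F u, CharTwo.two_eq_zero, zero_smul]
    exact h2 ▸ addOrderOf_dvd_natCard _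
  haveI : Fact (Nat.Prime 2) := ⟨Nat.prime_two⟩
  have h0 : (0 : U) ∈ MulAction.fixedPoints G U := fun g => Subtype.ext (map_zero (ρ g))
  obtain ⟨b, hb, hb0⟩ := hG.exists_fixed_point_of_prime_dvd_card_of_fixed_point U hd h0
  exact ⟨b, b.2, fun e => hb0 (Subtype.ext e.symm), fun g => congrArg Subtype.val (hb g)⟩

/-- The translates of `v` are independent once their sum is nonzero. -/
theorem orbit_injective [CharP F 2] [Finite F] [Fintype G] (hG : IsPGroup 2 G)
    (ρ : Representation F G V) (v : V) (hv : ∑ g, ρ g v ≠ 0) :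
    Function.Injective (Fintype.linearCombination F fun g => ρ g v) := by
  classical
  set L := Fintype.linearCombination F fun g => ρ g v with hL
  have hLa : ∀ f, L f = ∑ g, f g • ρ g v := fun f => Fintype.linearCombination_apply F _ _
  let σ : Representation F G (G → F) :=
    { toFun := fun s => LinearMap.funLeft F F fun t => s⁻¹ * t
      map_one' := LinearMap.ext fun f => funext fun t => by simp [LinearMap.funLeft_apply]
      map_mul' := fun s s' => LinearMap.ext fun f => funext fun t => by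
        simp [LinearMap.funLeft_apply, mul_assoc] }
  have hσ : ∀ s f t, σ s f t = f (s⁻¹ * t) := fun _ _ _ => rfl
  have hcomm : ∀ s f, L (σ s f) = ρ s (L f) := fun s f => by
    rw [hLa, hLa, map_sum]
    refine (Fintype.sum_equiv (Equiv.mulLeft s) _ _ fun t => ?_).symm
    show _ = σ s f (s * t) • ρ (s * t) v
    rw [hσ, inv_mul_cancel_left, map_smul, rep_mul_apply]
  rw [← LinearMap.ker_eq_bot]
  by_contra hne
  obtain ⟨f, hf, hf0, hfix⟩ := exists_fixed hG σ (LinearMap.ker L) (fun s f hf => by
    rw [LinearMap.mem_ker] at hf ⊢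
    rw [hcomm, hf, map_zero]) hne
  have hc : ∀ t, f t = f 1 := fun t => by
    conv_lhs => rw [← hfix t]
    rw [hσ, inv_mul_cancel]
  rw [LinearMap.mem_ker, hLa] at hf
  simp only [hc, ← Finset.smul_sum, smul_eq_zero, hv, or_false] at hf
  exact hf0 (funext fun t => (hc t).trans hf)

end General

variable {m : ℕ}

/-- Basis indices of the tensor product over a set of twists. -/
abbrev Idx (I : Finset (Fin (2 * m + 1))) := ↥I → Fin 4

/-- The Kronecker product of the twists of a matrix. -/
def tens (I : Finset (Fin (2 * m + 1))) (A : Matrix (Fin 4) (Fin 4) F) :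
    Matrix (Idx I) (Idx I) F :=
  fun a b => ∏ i : ↥I, A (a i) (b i) ^ 2 ^ (i.1.1)

theorem tens_apply (I : Finset (Fin (2 * m + 1))) (A : Matrix (Fin 4) (Fin 4) F) (a b : Idx I) :
    tens I A a b = ∏ i : ↥I, A (a i) (b i) ^ 2 ^ (i.1.1) := rfl

theorem tens_mul [CharP F 2] (I : Finset (Fin (2 * m + 1))) (A B : Matrix (Fin 4) (Fin 4) F) :
    tens I (A * B) = tens I A * tens I B := by
  haveI : Fact (Nat.Prime 2) := ⟨Nat.prime_two⟩
  ext a c
  simp only [tens_apply, Matrix.mul_apply]
  simp only [sum_pow_char_pow, Fintype.prod_sum, ← Finset.prod_mul_distrib, mul_pow]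

theorem tens_diagonal (I : Finset (Fin (2 * m + 1))) (d : Fin 4 → F) :
    tens I (Matrix.diagonal d) = Matrix.diagonal fun a : Idx I => ∏ i, d (a i) ^ 2 ^ (i.1.1) := by
  classical
  ext a b
  rw [tens_apply]
  rcases eq_or_ne a b with rfl | hne
  · simp [Matrix.diagonal_apply_eq]
  · obtain ⟨i, hi⟩ := Function.ne_iff.1 hne
    rw [Matrix.diagonal_apply_ne _ hne]
    exact Finset.prod_eq_zero (Finset.mem_univ i)
      (by rw [Matrix.diagonal_apply_ne _ hi, zero_pow (by positivity)])

theorem tens_one (I : Finset (Fin (2 * m + 1))) : tens I (1 : Matrix (Fin 4) (Fin 4) F) = 1 := by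
  rw [← Matrix.diagonal_one, tens_diagonal]
  simp

variable [Fintype F]

/-- The tensor product module. -/
noncomputable def tRep [CharP F 2] (I : Finset (Fin (2 * m + 1))) :
    Representation F (Sz F m) (Idx I → F) where
  toFun g := Matrix.toLin' (tens I g.1.1)
  map_one' := by
    rw [show ((1 : Sz F m).1.1 : Matrix (Fin 4) (Fin 4) F) = 1 from rfl, tens_one, Matrix.toLin'_one]
    rfl
  map_mul' g h := by
    rw [show ((g * h).1.1 : Matrix (Fin 4) (Fin 4) F) = g.1.1 * h.1.1 from rfl, tens_mul,
      Matrix.toLin'_mul]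
    rfl

variable [CharP F 2]

omit [Fintype F] in
theorem tRep_apply (I : Finset (Fin (2 * m + 1))) (g : Sz F m) (f : Idx I → F) (a : Idx I) :
    tRep I g f a = ∑ b, tens I g.1.1 a b * f b := rfl

omit [Fintype F] in
theorem tRep_single (I : Finset (Fin (2 * m + 1))) (g : Sz F m) (b a : Idx I) :
    tRep I g (Pi.single b 1) a = tens I g.1.1 a b := by
  classical
  rw [tRep_apply]
  simp [Pi.single_apply]

/-- Constant index. -/
def cst (I : Finset (Fin (2 * m + 1))) (k : Fin 4) : Idx I := fun _ => k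

/-- The basis vector with constant index. -/
def bv (I : Finset (Fin (2 * m + 1))) (k : Fin 4) : Idx I → F := Pi.single (cst I k) 1

omit [Fintype F] [CharP F 2] in
theorem bv_ne (I : Finset (Fin (2 * m + 1))) (k : Fin 4) : (bv I k : Idx I → F) ≠ 0 := fun e =>
  one_ne_zero (α := F) (by simpa [bv] using congrFun e (cst I k))

variable (hF : Fintype.card F = 2 ^ (2 * m + 1))
include hF

theorem tS_upper (a b : F) {i j : Fin 4} (hij : i ≠ j) (h : j = 0 ∨ i = 3) :
    (tS hF a b).1.1 i j = 0 := by
  show tMat m a b i j = 0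
  rcases h with rfl | rfl
  · fin_cases i <;> simp_all [tMat]
  · fin_cases j <;> simp_all [tMat]

omit hF in
omit [CharP F 2] [Fintype F] in
theorem tMat_diag (a b : F) (i : Fin 4) : tMat m a b i i = 1 := by
  fin_cases i <;> simp [tMat]

/-- Translations fix the top vector. -/
theorem tRep_tS_top (I : Finset (Fin (2 * m + 1))) (a b : F) :
    tRep I (tS hF a b) (bv I 0) = bv I 0 := by
  classical
  funext x
  rw [bv, tRep_single, Pi.single_apply, tens_apply]
  split_ifs with h
  · subst h
    exact Finset.prod_eq_one fun i _ => by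
      show tMat m a b 0 0 ^ _ = 1
      rw [tMat_diag, one_pow]
  · obtain ⟨i, hi⟩ := Function.ne_iff.1 h
    exact Finset.prod_eq_zero (Finset.mem_univ i)
      (by rw [show cst I 0 i = 0 from rfl, tS_upper hF a b (show x i ≠ 0 from hi) (Or.inl rfl),
        zero_pow (by positivity)])

/-- Translations preserve the bottom coordinate. -/
theorem tRep_tS_bot (I : Finset (Fin (2 * m + 1))) (a b : F) (f : Idx I → F) :
    tRep I (tS hF a b) f (cst I 3) = f (cst I 3) := by
  classical
  rw [tRep_apply, Fintype.sum_eq_single (cst I 3)]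
  · rw [tens_apply, Finset.prod_eq_one fun i _ => ?_, one_mul]
    show tMat m a b 3 3 ^ _ = 1
    rw [tMat_diag, one_pow]
  · intro x hx
    obtain ⟨i, hi⟩ := Function.ne_iff.1 hx
    rw [tens_apply, Finset.prod_eq_zero (Finset.mem_univ i), zero_mul]
    rw [show cst I 3 i = 3 from rfl, tS_upper hF a b (show (3 : Fin 4) ≠ x i from Ne.symm hi) (Or.inr rfl),
      zero_pow (by positivity)]

theorem tRep_wS (I : Finset (Fin (2 * m + 1))) : tRep I (wS hF) (bv I 0) = bv I 3 := by
  classical
  funext x
  rw [bv, tRep_single, bv, Pi.single_apply, tens_apply]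
  show ∏ i : ↥I, (wMat : Matrix (Fin 4) (Fin 4) F) (x i) 0 ^ _ = _
  have hw : ∀ k : Fin 4, (wMat : Matrix (Fin 4) (Fin 4) F) k 0 = if k = 3 then 1 else 0 := fun k => by
    fin_cases k <;> simp [wMat]
  split_ifs with h
  · subst h
    exact Finset.prod_eq_one fun i _ => by rw [hw, show cst I 3 i = 3 from rfl, if_pos rfl, one_pow]
  · obtain ⟨i, hi⟩ := Function.ne_iff.1 h
    exact Finset.prod_eq_zero (Finset.mem_univ i)
      (by rw [hw, if_neg (by simpa [cst] using hi), zero_pow (by positivity)])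

theorem tRep_hS (I : Finset (Fin (2 * m + 1))) (u : Fˣ) (f : Idx I → F) (a : Idx I) :
    tRep I (hS hF u) f a = (∏ i, hVec m u (a i) ^ 2 ^ (i.1.1)) * f a := by
  classical
  rw [tRep_apply]
  show ∑ b, tens I (Matrix.diagonal (hVec m u)) a b * f b = _
  rw [tens_diagonal]
  exact Matrix.mulVec_diagonal _ _ _

/-- Character sum of the corner of the translations. -/
theorem sum_top_bot :
    ∑ p : F × F, tRep (Finset.univ : Finset (Fin (2 * m + 1))) (tS hF p.1 p.2) (bv _ 3) (cst _ 0) = 1 := by
  classical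
  have hexp : ∑ i : ↥(Finset.univ : Finset (Fin (2 * m + 1))), 2 ^ (i.1.1) = Fintype.card F - 1 := by
    rw [Finset.sum_coe_sort (Finset.univ : Finset (Fin (2 * m + 1))) (fun i => 2 ^ (i : ℕ)),
      Fin.sum_univ_eq_sum_range (fun i => 2 ^ i), hF, Nat.geomSum_eq le_rfl]
    simp
  have hterm : ∀ p : F × F,
      tRep (Finset.univ : Finset (Fin (2 * m + 1))) (tS hF p.1 p.2) (bv _ 3) (cst _ 0) =
        1 - if p = 0 then 1 else 0 := by
    intro p
    rw [bv, tRep_single, tens_apply]
    show ∏ i : ↥(Finset.univ : Finset (Fin (2 * m + 1))), tMat m p.1 p.2 0 3 ^ _ = _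
    rw [Finset.prod_pow_eq_pow_sum, hexp, show tMat m p.1 p.2 0 3 = zf m p.1 p.2 by simp [tMat]]
    split_ifs with h
    · subst h
      rw [sub_self, show zf m (0 : F × F).1 (0 : F × F).2 = 0 by simp [zf],
        zero_pow (by have := Fintype.one_lt_card (α := F); omega)]
    · rw [sub_zero, FiniteField.pow_card_sub_one_eq_one]
      exact fun e => h (Prod.ext_iff.2 (zf_eq_zero hF e))
  simp only [hterm, Finset.sum_sub_distrib, Finset.sum_const, Finset.card_univ, Fintype.card_prod,
    nsmul_eq_mul, Nat.cast_mul, FiniteField.cast_card_eq_zero, Finset.sum_ite_eq', Finset.mem_univ,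
    if_true]
  simp [CharTwo.neg_eq]

/-- Extension of an index by a constant. -/
def ext (I : Finset (Fin (2 * m + 1))) (a : Idx I) (k : Fin 4) :
    Idx (Finset.univ : Finset (Fin (2 * m + 1))) :=
  fun i => if h : i.1 ∈ I then a ⟨i.1, h⟩ else k

/-- The translation by a pair, as an element of the subgroup of translations. -/
def uEl (p : F × F) : uGrp (m := m) hF := ⟨tS hF p.1 p.2, (mem_uGrp hF).2 ⟨p.1, p.2, rfl⟩⟩

theorem isPGroup_uGrp : IsPGroup 2 (uGrp (m := m) hF) :=
  IsPGroup.of_card (n := (2 * m + 1) * 2) (by rw [card_uGrp hF, hF, ← pow_mul])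

/-- The translates of the bottom vector form a basis of the full tensor product. -/
theorem univ_bijective :
    Function.Bijective (Fintype.linearCombination F fun p : F × F =>
      tRep (Finset.univ : Finset (Fin (2 * m + 1))) (tS hF p.1 p.2) (bv _ 3)) := by
  classical
  haveI : Fintype (uGrp (m := m) hF) := Fintype.ofEquiv _ (uParam hF)
  set ρ := (tRep (Finset.univ : Finset (Fin (2 * m + 1)))).comp (uGrp (m := m) hF).subtype with hρ
  have hs : ∑ g, ρ g (bv _ 3) ≠ (0 : Idx _ → F) := by
    intro e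
    rw [← (uParam hF).sum_comp] at e
    have := congrFun e (cst _ 0)
    rw [Finset.sum_apply] at this
    exact one_ne_zero (α := F) ((sum_top_bot hF).symm.trans this)
  have hinj := orbit_injective (isPGroup_uGrp hF) ρ _ hs
  have h2 : Function.Injective (Fintype.linearCombination F fun p : F × F =>
      tRep (Finset.univ : Finset (Fin (2 * m + 1))) (tS hF p.1 p.2) (bv _ 3)) := by
    intro f f' h
    have h' := @hinj (f ∘ (uParam hF).symm) (f' ∘ (uParam hF).symm) (by
      simp only [Fintype.linearCombination_apply] at h ⊢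
      rw [← (uParam hF).sum_comp, ← (uParam hF).sum_comp]
      simp only [Function.comp_apply, Equiv.symm_apply_apply]
      exact h)
    funext p
    simpa using congrFun h' (uParam hF p)
  refine (Fintype.bijective_iff_injective_and_card _).2 ⟨h2, ?_⟩
  simp only [Fintype.card_fun, Fintype.card_prod, Fintype.card_fin, Fintype.card_coe,
    Finset.card_univ, hF, ← pow_add]
  congr 1
  rw [show (4 : ℕ) = 2 ^ 2 from rfl, ← pow_mul]
  congr 1
  omega

theorem univ_fixed (u : Idx (Finset.univ : Finset (Fin (2 * m + 1))) → F)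
    (h : ∀ a b, tRep _ (tS hF a b) u = u) : ∃ c : F, u = c • bv _ 0 := by
  classical
  set L := Fintype.linearCombination F fun p : F × F =>
    tRep (Finset.univ : Finset (Fin (2 * m + 1))) (tS hF p.1 p.2) (bv _ 3) with hL
  have key : ∀ w : Idx (Finset.univ : Finset (Fin (2 * m + 1))) → F,
      (∀ a b, tRep _ (tS hF a b) w = w) → ∃ c : F, w = c • L fun _ => 1 := by
    intro w hw
    obtain ⟨f, rfl⟩ := (univ_bijective hF).2 w
    refine ⟨f 0, ?_⟩
    rw [← map_smul]
    congr 1
    funext p
    -- translate by `p`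
    let σ : F × F → F × F := fun q => (p.1 + q.1, p.2 + q.2 + th m p.1 * q.1)
    have hσ : Function.Bijective σ := (Fintype.bijective_iff_injective_and_card _).2 ⟨fun q q' e => by
      simp only [σ, Prod.mk.injEq, add_right_inj] at e
      obtain ⟨e1, e2⟩ := e
      exact Prod.ext e1 (by rw [e1] at e2; simpa using e2), rfl⟩
    let g : F × F → F := fun q => f ((Equiv.ofBijective σ hσ).symm q)
    have hfg : L g = L f := by
      rw [← hw p.1 p.2, hL, Fintype.linearCombination_apply, Fintype.linearCombination_apply,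
        map_sum, ← (Equiv.ofBijective σ hσ).sum_comp]
      refine Finset.sum_congr rfl fun q _ => ?_
      simp only [g, Equiv.symm_apply_apply, map_smul, ← rep_mul_apply]
      congr 3
      exact Subtype.ext (T_mul hF _ _ _ _).symm
    have := congrFun ((univ_bijective hF).1 hfg) p
    simp only [g] at this
    rw [← this, show (Equiv.ofBijective σ hσ).symm p = 0 by
      rw [Equiv.symm_apply_eq]; simp [σ]]
    simp
  obtain ⟨c, hc⟩ := key u h
  obtain ⟨c₀, hc₀⟩ := key (bv _ 0) fun a b => tRep_tS_top hF _ a b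
  have hc₀' : c₀ ≠ 0 := fun e => bv_ne _ 0 (by rw [hc₀, e, zero_smul])
  exact ⟨c / c₀, by rw [hc, hc₀, smul_smul, div_mul_cancel₀ _ hc₀']⟩

omit hF in
theorem prod_univ_split (I : Finset (Fin (2 * m + 1)))
    (φ : ↥(Finset.univ : Finset (Fin (2 * m + 1))) → F) :
    ∏ i, φ i = (∏ i : ↥I, φ ⟨i, Finset.mem_univ _⟩) *
      ∏ i : ↥(Iᶜ : Finset (Fin (2 * m + 1))), φ ⟨i, Finset.mem_univ _⟩ := by
  classical
  rw [Finset.prod_coe_sort I (fun i => φ ⟨i, Finset.mem_univ _⟩),
    Finset.prod_coe_sort Iᶜ (fun i => φ ⟨i, Finset.mem_univ _⟩), Finset.prod_mul_prod_compl]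
  exact Fintype.prod_equiv (Equiv.subtypeUnivEquiv fun i => Finset.mem_univ i) _ _ fun i => rfl

omit hF in
theorem ext_mem (I : Finset (Fin (2 * m + 1))) (a : Idx I) (k : Fin 4) (i : ↥I) :
    ext I a k ⟨i, Finset.mem_univ _⟩ = a i := by
  simp [ext]

omit hF in
theorem ext_not_mem (I : Finset (Fin (2 * m + 1))) (a : Idx I) (k : Fin 4)
    (i : ↥(Iᶜ : Finset (Fin (2 * m + 1)))) : ext I a k ⟨i, Finset.mem_univ _⟩ = k := by
  have := Finset.mem_compl.1 i.2
  simp [ext, this]

omit hF in
theorem tens_ext (I : Finset (Fin (2 * m + 1))) (A : Matrix (Fin 4) (Fin 4) F) (a : Idx I) (k : Fin 4)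
    (x : Idx (Finset.univ : Finset (Fin (2 * m + 1)))) :
    tens _ A (ext I a k) x = tens I A a (fun i => x ⟨i, Finset.mem_univ _⟩) *
      ∏ i : ↥(Iᶜ : Finset (Fin (2 * m + 1))), A k (x ⟨i, Finset.mem_univ _⟩) ^ 2 ^ (i.1.1) := by
  rw [tens_apply, prod_univ_split I, tens_apply]
  simp only [ext_mem, ext_not_mem]

omit hF in
theorem eq_ext (I : Finset (Fin (2 * m + 1))) (x : Idx (Finset.univ : Finset (Fin (2 * m + 1))))
    (k : Fin 4) (h : ∀ i, i.1 ∉ I → x i = k) : ext I (fun i => x ⟨i, Finset.mem_univ _⟩) k = x := by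
  funext i
  by_cases hi : i.1 ∈ I <;> simp [ext, hi, h i]

/-- Restriction to the slice with bottom index outside `I` commutes with translations. -/
theorem slice_tS (I : Finset (Fin (2 * m + 1))) (p q : F)
    (f : Idx (Finset.univ : Finset (Fin (2 * m + 1))) → F) (a : Idx I) :
    tRep _ (tS hF p q) f (ext I a 3) = tRep I (tS hF p q) (fun b => f (ext I b 3)) a := by
  classical
  rw [tRep_apply, tRep_apply]
  refine (Fintype.sum_of_injective (fun b => ext I b 3) (fun b b' e => funext fun i => ?_) _ _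
    (fun x hx => ?_) fun b => ?_).symm
  · simpa [ext_mem] using congrFun e ⟨i, Finset.mem_univ _⟩
  · rw [tens_ext]
    obtain ⟨i, hi, hne⟩ : ∃ i, i.1 ∉ I ∧ x i ≠ 3 := by
      by_contra hcon
      push Not at hcon
      exact hx ⟨_, eq_ext I x 3 hcon⟩
    rw [Finset.prod_eq_zero (Finset.mem_univ (⟨i.1, Finset.mem_compl.2 hi⟩ : ↥Iᶜ))]
    · simp
    · rw [show (⟨(⟨i.1, Finset.mem_compl.2 hi⟩ : ↥Iᶜ).1, Finset.mem_univ _⟩ :
        ↥(Finset.univ : Finset (Fin (2 * m + 1)))) = i from rfl,
        tS_upper hF p q (Ne.symm hne) (Or.inr rfl), zero_pow (by positivity)]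
  · rw [tens_ext]
    simp only [ext_mem, ext_not_mem]
    rw [Finset.prod_eq_one (s := Finset.univ) fun i _ => ?_, mul_one]
    show tMat m p q 3 3 ^ _ = 1
    rw [tMat_diag, one_pow]

/-- The translates of the bottom vector span. -/
theorem span_bot (I : Finset (Fin (2 * m + 1))) :
    Submodule.span F (Set.range fun p : F × F => tRep I (tS hF p.1 p.2) (bv I 3)) = ⊤ := by
  classical
  refine eq_top_iff.2 fun f _ => ?_
  obtain ⟨c, hc⟩ := (univ_bijective hF).2
    (fun x => if ∀ i, i.1 ∉ I → x i = 3 then f (fun i => x ⟨i, Finset.mem_univ _⟩) else 0)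
  have hsl : f = ∑ p : F × F, c p • tRep I (tS hF p.1 p.2) (bv I 3) := by
    funext a
    have := congrFun hc (ext I a 3)
    rw [Fintype.linearCombination_apply, Finset.sum_apply, if_pos (fun i hi => by simp [ext, hi])] at this
    simp only [ext_mem] at this
    rw [Finset.sum_apply, ← this]
    refine Finset.sum_congr rfl fun p _ => ?_
    simp only [Pi.smul_apply, smul_eq_mul]
    rw [slice_tS]
    congr 1
    refine congrArg (fun v => tRep I (tS hF p.1 p.2) v a) ?_
    funext b
    simp only [bv, Pi.single_apply]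
    refine if_congr ⟨fun h => funext fun i => ?_, fun h => ?_⟩ rfl rfl
    · simpa [ext_mem, cst] using congrFun h ⟨i, Finset.mem_univ _⟩
    · subst h; funext i; simp [ext, cst]
  rw [hsl]
  exact Submodule.sum_mem _ fun p _ => Submodule.smul_mem _ _ (Submodule.subset_span ⟨p, rfl⟩)

/-- Vectors fixed by all translations. -/
theorem fixed_eq (I : Finset (Fin (2 * m + 1))) (u : Idx I → F)
    (h : ∀ a b, tRep I (tS hF a b) u = u) : ∃ c : F, u = c • bv I 0 := by
  classical
  let J : Idx (Finset.univ : Finset (Fin (2 * m + 1))) → F := fun x =>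
    if ∀ i, i.1 ∉ I → x i = 0 then u (fun i => x ⟨i, Finset.mem_univ _⟩) else 0
  have hJ : ∀ a b, tRep _ (tS hF a b) J = J := by
    intro a b
    funext x
    have hsum : tRep _ (tS hF a b) J x = ∑ y : Idx I, tens _ (tS hF a b).1.1 x (ext I y 0) * u y := by
      rw [tRep_apply]
      refine (Fintype.sum_of_injective (fun y => ext I y 0) (fun y y' e => funext fun i => ?_) _ _
        (fun z hz => ?_) fun y => ?_).symm
      · simpa [ext_mem] using congrFun e ⟨i, Finset.mem_univ _⟩
      · simp only [J]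
        rw [if_neg (fun hcon => hz ⟨_, eq_ext I z 0 hcon⟩), mul_zero]
      · simp only [J, ext_mem]
        rw [if_pos fun i hi => by simp [ext, hi]]
    rw [hsum]
    by_cases hx : ∀ i, i.1 ∉ I → x i = 0
    · rw [← eq_ext I x 0 hx]
      simp only [J]
      rw [if_pos fun i hi => by simp [ext, hi]]
      simp only [ext_mem]
      conv_rhs => rw [← h a b, tRep_apply]
      refine Finset.sum_congr rfl fun y _ => ?_
      rw [tens_ext]
      simp only [ext_mem, ext_not_mem]
      rw [Finset.prod_eq_one (s := Finset.univ) fun i _ => ?_, mul_one]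
      show tMat m a b 0 0 ^ _ = 1
      rw [tMat_diag, one_pow]
    · simp only [J, if_neg hx]
      push Not at hx
      obtain ⟨i, hi, hne⟩ := hx
      refine Finset.sum_eq_zero fun y _ => ?_
      rw [tens_apply, Finset.prod_eq_zero (Finset.mem_univ i), zero_mul]
      rw [show ext I y 0 i = 0 by simp [ext, hi], tS_upper hF a b hne (Or.inl rfl),
        zero_pow (by positivity)]
  obtain ⟨c, hc⟩ := univ_fixed hF J hJ
  refine ⟨c, funext fun a => ?_⟩
  have := congrFun hc (ext I a 0)
  simp only [J, ext_mem] at this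
  rw [if_pos (fun i hi => by simp [ext, hi])] at this
  rw [this]
  simp only [Pi.smul_apply, smul_eq_mul, bv, Pi.single_apply]
  congr 1
  refine if_congr ⟨fun h => funext fun i => ?_, fun h => ?_⟩ rfl rfl
  · simpa [ext_mem, cst] using congrFun h ⟨i, Finset.mem_univ _⟩
  · subst h; funext i; simp [ext, cst]

/-- The tensor products of twists are irreducible. -/
theorem tRep_irred (I : Finset (Fin (2 * m + 1))) : IsIrred (tRep I : Representation F (Sz F m) _) := by
  refine ⟨⟨bv I 0, bv_ne I 0⟩, fun U hU u hu hu0 => ?_⟩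
  obtain ⟨w, hwU, hw0, hwfix⟩ := exists_fixed (isPGroup_uGrp (m := m) hF)
    ((tRep I).comp (uGrp hF).subtype) U (fun g v hv => hU g v hv)
    (fun e => hu0 (Submodule.mem_bot F |>.1 (e ▸ hu)))
  obtain ⟨c, hc⟩ := fixed_eq hF I w fun a b => hwfix (uEl hF (a, b))
  have hc0 : c ≠ 0 := fun e => hw0 (by rw [hc, e, zero_smul])
  have h0 : bv I 0 ∈ U := by
    have := U.smul_mem c⁻¹ (hc ▸ hwU)
    rwa [smul_smul, inv_mul_cancel₀ hc0, one_smul] at this
  have h3 : bv I 3 ∈ U := tRep_wS hF I ▸ hU _ _ h0
  rw [eq_top_iff, ← span_bot hF I, Submodule.span_le]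
  rintro _ ⟨p, rfl⟩
  exact hU _ _ h3

end Cfsg.Agent.MartineauSz
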